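import Mathlib.GroupTheory.PGroup
import Mathlib.GroupTheory.Nilpotent
import Mathlib.GroupTheory.Commutator.Basic

/-!
# Normal abelian subgroups of exponent four and their centralisers in 2-groups

* `mem_of_pow_four`: Alperin's lemma, `Ω₂(C_G(N)) = N` for a maximal normal abelian subgroup `N`
  of exponent at most four.
* `relIndex_le_omega`: if the elements with `x ^ 4 = 1` of a 2-group are central, every elementary
  abelian quotient has order at most the number of solutions of `x ^ 2 = 1`.
-/

set_option autoImplicit false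
set_option linter.unusedSectionVars false
set_option linter.style.haveILetI false

open Subgroup
open scoped commutatorElement

namespace CfsgLib.PGroup.FourGen

universe u

variable {G : Type u} [Group G]

theorem eq_bot_of_commutator_eq [hn : Group.IsNilpotent G] {K : Subgroup G}
    (h : K ≤ ⁅K, (⊤ : Subgroup G)⁆) : K = ⊥ := by
  obtain ⟨n, hn⟩ := Subgroup.nilpotent_iff_lowerCentralSeries.1 hn
  rw [eq_bot_iff, ← hn]
  clear hn
  induction n with
  | zero => rw [Subgroup.lowerCentralSeries_zero]; exact le_top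
  | succ n ih =>
    refine h.trans ?_
    rw [Subgroup.lowerCentralSeries_succ]
    exact commutator_mono ih le_rfl

theorem exists_pow_order_four [Finite G] (hG : IsPGroup 2 G) {c : G} (hc : c ^ 4 ≠ 1) :
    ∃ k : ℕ, Even (2 ^ k) ∧ orderOf (c ^ 2 ^ k) = 4 := by
  haveI : Fact (Nat.Prime 2) := ⟨Nat.prime_two⟩
  obtain ⟨m, hm⟩ := IsPGroup.iff_orderOf.1 hG c
  have h3 : 3 ≤ m := by
    by_contra hlt
    refine hc (orderOf_dvd_iff_pow_eq_one.1 ?_)
    rw [hm, show (4 : ℕ) = 2 ^ 2 by rfl]
    exact Nat.pow_dvd_pow 2 (by omega)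
  refine ⟨m - 2, (Nat.even_pow' (by omega)).2 even_two, ?_⟩
  rw [orderOf_pow' c (pow_ne_zero _ two_ne_zero), hm,
    Nat.gcd_eq_right (Nat.pow_dvd_pow 2 (by omega)), Nat.pow_div (by omega) two_pos,
    show m - (m - 2) = 2 by omega]
  rfl

/-- An element inverted, up to a central involution, by an element centralising the elements of
order four has order at most four. -/
theorem pow_four_eq_one [Finite G] (hG : IsPGroup 2 G) {x c e : G} (he : e ^ 2 = 1)
    (hec : Commute e c⁻¹) (hxc : x⁻¹ * c * x = e * c⁻¹)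
    (hfix : ∀ k : ℕ, (c ^ k) ^ 4 = 1 → Commute (c ^ k) x) : c ^ 4 = 1 := by
  by_contra hc
  obtain ⟨k, hk, ho⟩ := exists_pow_order_four hG hc
  set d := c ^ 2 ^ k with hd
  have h4 : d ^ 4 = 1 := ho ▸ pow_orderOf_eq_one d
  have h1 : x⁻¹ * d * x = d⁻¹ := by
    have h2 : (x⁻¹ * c * x) ^ 2 ^ k = d⁻¹ := by
      obtain ⟨j, hj⟩ := hk
      rw [hxc, hec.mul_pow, hd, inv_pow, hj, ← two_mul, pow_mul e, he, one_pow, one_mul]
    rw [← h2, hd]
    simpa using (conj_pow (a := x⁻¹) (b := c) (i := 2 ^ k)).symm
  rw [mul_assoc, (hfix _ h4).eq, inv_mul_cancel_left] at h1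
  have : orderOf d ∣ 2 := orderOf_dvd_iff_pow_eq_one.2 (by rw [pow_two]; exact mul_eq_one_iff_eq_inv.2 h1)
  rw [ho] at this
  norm_num at this

/-- `N` is maximal among the normal abelian subgroups of exponent at most four. -/
structure MaxFour (N : Subgroup G) : Prop where
  normal : N.Normal
  comm : ∀ a ∈ N, ∀ b ∈ N, a * b = b * a
  exp : ∀ a ∈ N, a ^ 4 = 1
  max : ∀ B : Subgroup G, B.Normal → (∀ a ∈ B, ∀ b ∈ B, a * b = b * a) →
    (∀ a ∈ B, a ^ 4 = 1) → N ≤ B → B = N

theorem exists_maxFour [Finite G] : ∃ N : Subgroup G, MaxFour N := by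
  obtain ⟨N, -, ⟨h1, h2, h3⟩, h4⟩ := Finite.exists_le_maximal
    (p := fun B : Subgroup G => B.Normal ∧ (∀ a ∈ B, ∀ b ∈ B, a * b = b * a) ∧
      ∀ a ∈ B, a ^ 4 = 1) (a := ⊥) ⟨inferInstance, by simp, by simp⟩
  exact ⟨N, h1, h2, h3, fun B hB hc he hle => le_antisymm (h4 ⟨hB, hc, he⟩ hle) hle⟩

/-- **Alperin's lemma.** -/
theorem MaxFour.mem_of_pow_four [Finite G] (hG : IsPGroup 2 G) {N : Subgroup G} (hN : MaxFour N)
    {x : G} (hx : x ∈ centralizer (N : Set G)) (h4 : x ^ 4 = 1) : x ∈ N := by
  haveI := hN.normal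
  haveI : Fact (Nat.Prime 2) := ⟨Nat.prime_two⟩
  haveI : (centralizer (N : Set G)).Normal := Subgroup.normal_centralizer
  have hcN : ∀ {y : G}, y ∈ centralizer (N : Set G) → ∀ n ∈ N, Commute y n := fun hy n hn =>
    (mem_centralizer_iff.1 hy n hn).symm
  have key : ∀ m : ℕ, ∀ x : G, x ∈ centralizer (N : Set G) → x ^ 4 = 1 → x ^ 2 ∈ N →
      Nat.card (normalClosure {x} ⊔ N : Subgroup G) ≤ m → x ∈ N := by
    intro m
    induction m with
    | zero => intro x _ _ _ hle; exact absurd hle (Nat.not_le.2 Nat.card_pos)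
    | succ m ih =>
      intro x hx hx4 hx2 hle
      by_contra hxN
      set K := normalClosure {x} ⊔ N with hK
      haveI : K.Normal := Subgroup.sup_normal _ _
      set T := ⁅K, (⊤ : Subgroup G)⁆ ⊔ N with hT
      haveI : T.Normal := Subgroup.sup_normal _ _
      have hxK : x ∈ K := mem_sup_left (subset_normalClosure rfl)
      have hKC : K ≤ centralizer (N : Set G) :=
        sup_le (normalClosure_le_normal (Set.singleton_subset_iff.2 hx))
          (fun a ha => mem_centralizer_iff.2 fun b hb => hN.comm b hb a ha)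
      have hTK : T ≤ K := sup_le (commutator_le_left K ⊤) le_sup_right
      have hlt : T < K := lt_of_le_of_ne hTK fun e => by
        haveI := (hG.to_quotient N).isNilpotent
        have hsurj : Function.Surjective (QuotientGroup.mk' N) := QuotientGroup.mk'_surjective N
        have h1 : K.map (QuotientGroup.mk' N) ≤ ⁅K.map (QuotientGroup.mk' N), ⊤⁆ := by
          conv_lhs => rw [← e, hT, Subgroup.map_sup, map_commutator, map_top_of_surjective _ hsurj,
            QuotientGroup.map_mk'_self, sup_bot_eq]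
        have h2 := eq_bot_of_commutator_eq h1
        rw [Subgroup.map_eq_bot_iff, QuotientGroup.ker_mk'] at h2
        exact hxN (h2 hxK)
      have hcard : Nat.card T < Nat.card K := lt_of_le_of_ne
        (card_le_of_le hTK) fun e => hlt.ne (eq_of_le_of_card_ge hTK e.ge)
      have hsmall : ∀ t ∈ T, t ^ 4 = 1 → t ^ 2 ∈ N → t ∈ N := fun t ht h1 h2 =>
        ih t (hKC (hTK ht)) h1 h2 (by
          have : normalClosure {t} ⊔ N ≤ T :=
            sup_le (normalClosure_le_normal (Set.singleton_subset_iff.2 ht)) le_sup_right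
          have := card_le_of_le this
          omega)
      have hfour : ∀ t ∈ T, t ^ 4 = 1 → t ∈ N := fun t ht h1 => by
        refine hsmall t ht h1 (hsmall _ (pow_mem ht 2) ?_ ?_)
        · rw [← pow_mul, show 2 * 4 = 4 * 2 by rfl, pow_mul, h1, one_pow]
        · rw [← pow_mul, show 2 * 2 = 4 by rfl, h1]; exact one_mem N
      -- `x` is central modulo `N`
      have hcent : ∀ g : G, x⁻¹ * (g * x * g⁻¹) ∈ N := by
        intro g
        set c := x⁻¹ * (g * x * g⁻¹) with hc
        have hcT : c ∈ T := by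
          refine mem_sup_left ?_
          rw [hc, show x⁻¹ * (g * x * g⁻¹) = ⁅x⁻¹, g⁆ by simp [commutatorElement_def, mul_assoc]]
          exact commutator_mem_commutator (inv_mem hxK) (mem_top g)
        have hyK : g * x * g⁻¹ ∈ K := Subgroup.Normal.conj_mem inferInstance x hxK g
        have hy2 : (g * x * g⁻¹) ^ 2 ∈ N := by
          rw [conj_pow]; exact Subgroup.Normal.conj_mem inferInstance _ hx2 g
        set e := (x ^ 2)⁻¹ * (g * x * g⁻¹) ^ 2 with he
        have heN : e ∈ N := mul_mem (inv_mem hx2) hy2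
        have he2 : e ^ 2 = 1 := by
          rw [he, Commute.mul_pow (hN.comm _ (inv_mem hx2) _ hy2), inv_pow, ← pow_mul,
            ← pow_mul, show 2 * 2 = 4 by rfl, hx4, conj_pow, hx4, mul_one, mul_inv_cancel,
            inv_one, mul_one]
        have hxc : x⁻¹ * c * x = e * c⁻¹ := by
          have h1 : g * x * g⁻¹ = x * c := by rw [hc, mul_inv_cancel_left]
          rw [he, h1, pow_two, pow_two]
          group
        refine hfour c hcT (pow_four_eq_one hG he2
          ((hcN (hKC (hTK (inv_mem hcT))) e heN).symm) hxc fun k hk => ?_)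
        exact (hcN hx _ (hfour _ (pow_mem hcT k) hk)).symm
      set B := closure (insert x (N : Set G)) with hB
      have hxB : x ∈ B := subset_closure (Set.mem_insert _ _)
      have hNB : N ≤ B := fun n hn => subset_closure (Set.mem_insert_of_mem _ hn)
      haveI hcm : IsMulCommutative B := isMulCommutative_closure (by
        rintro a (rfl | ha) b (rfl | hb)
        exacts [rfl, hcN hx b hb, (hcN hx a ha).symm.eq, hN.comm a ha b hb])
      have hBc : ∀ a ∈ B, ∀ b ∈ B, a * b = b * a := fun a ha b hb =>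
        congrArg Subtype.val (hcm.is_comm.comm (⟨a, ha⟩ : B) ⟨b, hb⟩)
      have hBn : B.Normal := ⟨fun b hb g => by
        induction hb using closure_induction with
        | mem z hz =>
          rcases hz with rfl | hz
          · rw [← mul_inv_cancel_left z (g * z * g⁻¹)]
            exact mul_mem hxB (hNB (hcent g))
          · exact hNB (Subgroup.Normal.conj_mem inferInstance z hz g)
        | one => simp
        | mul a b _ _ ha hb => simpa [mul_assoc] using mul_mem ha hb
        | inv a _ ha => simpa [mul_assoc] using inv_mem ha⟩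
      have hB4 : ∀ b ∈ B, b ^ 4 = 1 := fun b hb => by
        induction hb using closure_induction with
        | mem z hz => rcases hz with rfl | hz; exacts [hx4, hN.exp z hz]
        | one => simp
        | mul a b ha' hb' ha hb => rw [Commute.mul_pow (hBc a ha' b hb'), ha, hb, one_mul]
        | inv a _ ha => rw [inv_pow, ha, inv_one]
      exact hxN ((hN.max B hBn hBc hB4 hNB).le hxB)
  refine key _ x hx h4 (key _ (x ^ 2) (pow_mem hx 2) ?_ ?_ le_rfl) le_rfl
  · rw [← pow_mul, show 2 * 4 = 4 * 2 by rfl, pow_mul, h4, one_pow]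
  · rw [← pow_mul, show 2 * 2 = 4 by rfl, h4]; exact one_mem N

/-- If the elements with `x ^ 4 = 1` are central, so are those with `x ^ 8 = 1` modulo the
involutions. -/
theorem commutator_sq_eq_one {D : Type u} [Group D] [Finite D] (hp : IsPGroup 2 D)
    (hc : ∀ x : D, x ^ 4 = 1 → ∀ y, x * y = y * x) {a : D} (ha8 : (a ^ 2) ^ 4 = 1) (b : D) :
    (a⁻¹ * b⁻¹ * a * b) ^ 2 = 1 := by
  set c := a⁻¹ * b⁻¹ * a * b with hcdef
  have hxc : a⁻¹ * c * a = 1 * c⁻¹ := by
    have h1 : (a ^ 2)⁻¹ * b⁻¹ * a ^ 2 * b = 1 := by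
      rw [mul_assoc _ (a ^ 2) b, hc _ ha8 b]; group
    rw [one_mul, eq_inv_iff_mul_eq_one, ← h1, hcdef, pow_two]
    group
  have hc4 : c ^ 4 = 1 := pow_four_eq_one hp (one_pow 2) (Commute.one_left _) hxc
    fun k hk => hc _ hk a
  have hc2 : c ^ 2 = 1 := by
    have h1 := hxc
    rw [one_mul, mul_assoc, hc c hc4 a, inv_mul_cancel_left] at h1
    rw [pow_two]; nth_rw 1 [h1]; exact inv_mul_cancel c
  exact hc2

theorem card_elementary_quotient_le :
    ∀ (n : ℕ) {D : Type u} [Group D] [Finite D], Nat.card D ≤ n → IsPGroup 2 D →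
      (∀ x : D, x ^ 4 = 1 → ∀ y, x * y = y * x) → ∀ (M : Subgroup D),
      (∀ x : D, x * x ∈ M) → M.index ≤ Nat.card {x : D // x ^ 2 = 1} := by
  intro n
  induction n with
  | zero => intro D _ _ h; exact absurd h (Nat.not_le.2 Nat.card_pos)
  | succ n ih =>
    intro D _ _ hD hp hc M hsq
    haveI : Fact (Nat.Prime 2) := ⟨Nat.prime_two⟩
    let E : Subgroup D :=
      { carrier := {x | x ^ 2 = 1}
        one_mem' := one_pow 2
        mul_mem' := fun {a b} ha hb => by
          have hab : Commute a b := hc a (by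
            rw [show 4 = 2 * 2 by rfl, pow_mul, show a ^ 2 = 1 from ha, one_pow]) b
          show (a * b) ^ 2 = 1
          rw [hab.mul_pow, show a ^ 2 = 1 from ha, show b ^ 2 = 1 from hb, one_mul]
        inv_mem' := fun {a} ha => by
          show a⁻¹ ^ 2 = 1
          rw [inv_pow, show a ^ 2 = 1 from ha, inv_one] }
    have hEc : ∀ x ∈ E, ∀ y, x * y = y * x := fun x hx => hc x (by
      rw [show 4 = 2 * 2 by rfl, pow_mul, show x ^ 2 = 1 from hx, one_pow])
    haveI : E.Normal := ⟨fun x hx g => by rw [← hEc x hx g, mul_inv_cancel_right]; exact hx⟩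
    change M.index ≤ Nat.card E
    by_cases hEM : E ≤ M
    · by_cases htr : Nat.card D = 1
      · have h1 : M.index ∣ Nat.card D := M.index_dvd_card
        rw [htr, Nat.dvd_one] at h1
        rw [h1]
        exact Nat.card_pos
      have hE1 : 1 < Nat.card E := by
        haveI : Nontrivial D := Finite.one_lt_card_iff_nontrivial.1 (by
          have : 0 < Nat.card D := Nat.card_pos
          omega)
        obtain ⟨k, hk⟩ := IsPGroup.iff_card.1 hp
        obtain ⟨z, hz⟩ := exists_prime_orderOf_dvd_card' (G := D) 2 (by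
          rw [hk]; exact dvd_pow_self 2 (fun e => by rw [e, pow_zero] at hk; exact htr hk))
        refine Finite.one_lt_card_iff_nontrivial.2 ⟨⟨⟨z, by
          show z ^ 2 = 1
          rw [← hz]; exact pow_orderOf_eq_one z⟩, 1, fun e => ?_⟩⟩
        rw [show z = 1 from congrArg Subtype.val e, orderOf_one] at hz
        exact absurd hz (by norm_num)
      have hlt : Nat.card (D ⧸ E) ≤ n := by
        have h1 := E.index_mul_card
        rw [index_eq_card] at h1
        have h2 : Nat.card (D ⧸ E) * 2 ≤ Nat.card D := h1 ▸ Nat.mul_le_mul_left _ hE1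
        have h3 : 0 < Nat.card (D ⧸ E) := Nat.card_pos
        omega
      have hc' : ∀ x : D ⧸ E, x ^ 4 = 1 → ∀ y, x * y = y * x := by
        intro x hx y
        obtain ⟨a, rfl⟩ := QuotientGroup.mk_surjective x
        obtain ⟨b, rfl⟩ := QuotientGroup.mk_surjective y
        rw [← QuotientGroup.mk_pow, QuotientGroup.eq_one_iff] at hx
        have ha8 : (a ^ 2) ^ 4 = 1 := by
          have h1 : (a ^ 4) ^ 2 = 1 := hx
          rw [← pow_mul] at h1 ⊢
          exact h1
        rw [← QuotientGroup.mk_mul, ← QuotientGroup.mk_mul, QuotientGroup.eq]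
        have h3 : (a⁻¹ * b⁻¹ * a * b)⁻¹ ∈ E :=
          inv_mem (show a⁻¹ * b⁻¹ * a * b ∈ E from commutator_sq_eq_one hp hc ha8 b)
        simpa [mul_assoc] using h3
      haveI : M.Normal := ⟨fun m hm g => by
        have h1 := mul_mem (mul_mem (hsq (g * m)) (inv_mem hm)) (inv_mem (hsq g))
        have h2 : g * m * (g * m) * m⁻¹ * (g * g)⁻¹ = g * m * g⁻¹ := by group
        rwa [h2] at h1⟩
      have h1 := ih hlt (hp.to_quotient E) hc' (M.map (QuotientGroup.mk' E)) (fun x => by
        obtain ⟨a, rfl⟩ := QuotientGroup.mk'_surjective E x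
        exact ⟨a * a, hsq a, map_mul _ _ _⟩)
      rw [Subgroup.index_map_eq M (QuotientGroup.mk'_surjective E)
        (by rwa [QuotientGroup.ker_mk'])] at h1
      refine h1.trans (Nat.card_le_card_of_injective
        (fun x : {x : D ⧸ E // x ^ 2 = 1} => (⟨(Quotient.out x.1) ^ 2, by
          show (Quotient.out x.1) ^ 2 ∈ E
          have := x.2
          rw [← QuotientGroup.out_eq' x.1, ← QuotientGroup.mk_pow, QuotientGroup.eq_one_iff] at this
          exact this⟩ : E)) ?_)
      intro x y e
      have e' : (Quotient.out x.1) ^ 2 = (Quotient.out y.1) ^ 2 := congrArg Subtype.val e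
      have hy4 : (Quotient.out y.1) ^ 4 = 1 := by
        have := y.2
        rw [← QuotientGroup.out_eq' y.1, ← QuotientGroup.mk_pow, QuotientGroup.eq_one_iff] at this
        have h1 : ((Quotient.out y.1) ^ 2) ^ 2 = 1 := this
        rwa [← pow_mul] at h1
      refine Subtype.ext ?_
      rw [← QuotientGroup.out_eq' x.1, ← QuotientGroup.out_eq' y.1, QuotientGroup.eq]
      show ((Quotient.out x.1)⁻¹ * Quotient.out y.1) ^ 2 = 1
      have hcm : Commute (Quotient.out x.1)⁻¹ (Quotient.out y.1) :=
        Commute.inv_left (hc _ hy4 _ : Commute (Quotient.out y.1) (Quotient.out x.1)).symm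
      rw [hcm.mul_pow, inv_pow, e', inv_mul_cancel]
    · obtain ⟨e, heE, heM⟩ := SetLike.not_le_iff_exists.1 hEM
      obtain ⟨D₀, hMD, heD, hmax⟩ := Finite.exists_le_maximal
        (p := fun U : Subgroup D => e ∉ U) (a := M) heM
      have hsq' : ∀ x : D, x * x ∈ D₀ := fun x => hMD (hsq x)
      haveI : D₀.Normal := ⟨fun m hm g => by
        have h1 := mul_mem (mul_mem (hsq' (g * m)) (inv_mem hm)) (inv_mem (hsq' g))
        have h2 : g * m * (g * m) * m⁻¹ * (g * g)⁻¹ = g * m * g⁻¹ := by group
        rwa [h2] at h1⟩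
      have hcover : ∀ x : D, x ∈ D₀ ∨ x * e⁻¹ ∈ D₀ := by
        intro x
        by_contra hno
        push Not at hno
        have h1 : e ∈ D₀ ⊔ zpowers x := by
          by_contra h2
          exact hno.1 (hmax h2 le_sup_left (mem_sup_right (mem_zpowers x)))
        obtain ⟨d, hd, y, ⟨i, rfl⟩, hde⟩ := mem_sup_of_normal_left.1 h1
        rcases Int.even_or_odd' i with ⟨j, rfl | rfl⟩
        · refine heD (hde ▸ mul_mem hd ?_)
          show x ^ (2 * j) ∈ D₀
          rw [zpow_mul, zpow_two]
          exact zpow_mem (hsq' x) j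
        · refine hno.2 ?_
          have h3 : x ^ (2 * j + 1) = (x * x) ^ j * x := by
            rw [zpow_add, zpow_one, zpow_mul, zpow_two]
          have h3' : d * ((x * x) ^ j * x) = e := by rw [← h3]; exact hde
          have h4 : x * e⁻¹ = ((x * x) ^ j)⁻¹ * d⁻¹ := by rw [← h3']; group
          rw [h4]
          exact mul_mem (inv_mem (zpow_mem (hsq' x) j)) (inv_mem hd)
      have hidx : D₀.index = 2 := by
        rw [index_eq_two_iff]
        refine ⟨e⁻¹, fun b => ?_⟩
        rcases hcover b with h | h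
        · refine Or.inr ⟨h, fun h' => heD ?_⟩
          simpa using inv_mem ((mul_mem_cancel_left h).1 h')
        · refine Or.inl ⟨h, fun h' => heD ?_⟩
          simpa using inv_mem ((mul_mem_cancel_left h').1 h)
      have hlt : Nat.card D₀ ≤ n := by
        have h1 := D₀.index_mul_card
        rw [hidx] at h1
        have : 0 < Nat.card D₀ := Nat.card_pos
        omega
      have h1 := ih hlt (hp.to_subgroup D₀)
        (fun x hx y => Subtype.ext (hc _ (by simpa using congrArg Subtype.val hx) _))
        (M.subgroupOf D₀) (fun x => mem_subgroupOf.2 (hsq x))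
      rw [← relIndex_mul_index hMD, hidx]
      refine (Nat.mul_le_mul_right 2 h1).trans ?_
      rw [mul_comm]
      refine le_trans (le_of_eq ?_) (Nat.card_le_card_of_injective
        (fun p : Bool × {x : D₀ // x ^ 2 = 1} => (⟨(if p.1 then e else 1) * (p.2.1 : D),
          E.mul_mem (by split_ifs; exacts [heE, one_mem E])
            (show ((p.2.1 : D₀) : D) ^ 2 = 1 by simpa using congrArg Subtype.val p.2.2)⟩ : E)) ?_)
      · rw [Nat.card_prod, Nat.card_eq_fintype_card (α := Bool), Fintype.card_bool]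
      · rintro ⟨a, x⟩ ⟨b, y⟩ hxy
        have hxy' : (if a then e else 1) * (x.1 : D) = (if b then e else 1) * (y.1 : D) :=
          congrArg Subtype.val hxy
        cases a <;> cases b <;> simp only [Bool.false_eq_true, if_false, if_true, one_mul] at hxy'
        · rw [show x = y from Subtype.ext (Subtype.ext hxy')]
        · refine absurd ?_ heD
          rw [show e = (x.1 : D) * (y.1 : D)⁻¹ by rw [hxy']; group]
          exact mul_mem x.1.2 (inv_mem y.1.2)
        · refine absurd ?_ heD
          rw [show e = (y.1 : D) * (x.1 : D)⁻¹ by rw [← hxy']; group]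
          exact mul_mem y.1.2 (inv_mem x.1.2)
        · rw [show x = y from Subtype.ext (Subtype.ext (mul_left_cancel hxy'))]

/-- If the elements of `F` with `x ^ 4 = 1` are central in `F`, an elementary abelian quotient
of `F` has order at most the number of elements of `F` with `x ^ 2 = 1`. -/
theorem relIndex_le_omega [Finite G] (hG : IsPGroup 2 G) {F M : Subgroup G}
    (hc : ∀ x ∈ F, x ^ 4 = 1 → ∀ y ∈ F, x * y = y * x) (hsq : ∀ x ∈ F, x * x ∈ M)
    {E : Subgroup G} (hE : ∀ x ∈ F, x ^ 2 = 1 → x ∈ E) : M.relIndex F ≤ Nat.card E := by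
  have h1 := card_elementary_quotient_le (Nat.card F) (D := F) le_rfl (hG.to_subgroup F)
    (fun x hx y => Subtype.ext (hc x x.2 (by simpa using congrArg Subtype.val hx) y y.2))
    (M.subgroupOf F) (fun x => mem_subgroupOf.2 (hsq x x.2))
  exact h1.trans (Nat.card_le_card_of_injective
    (fun x => (⟨x.1, hE x.1 x.1.2 (by simpa using congrArg Subtype.val x.2)⟩ : E))
    fun a b e => Subtype.ext (Subtype.ext (Subtype.mk.inj e)))

end CfsgLib.PGroup.FourGen
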