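import Mathlib.Data.ZMod.Basic
import Mathlib.GroupTheory.Index

/-!
# Two by two matrices over the field of two elements, as pairs of columns
-/

set_option autoImplicit false
set_option linter.unusedSectionVars false

namespace CfsgLib.PGroup.FourGen

/-- Vectors. -/
abbrev Vec := ZMod 2 × ZMod 2

/-- Matrices, as pairs of columns. -/
abbrev Mat := Vec × Vec

/-- Matrix times vector. -/
def mv (M : Mat) (v : Vec) : Vec :=
  (v.1 * M.1.1 + v.2 * M.2.1, v.1 * M.1.2 + v.2 * M.2.2)

/-- Conjugate by an involutory matrix. -/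
def mc (A M : Mat) : Mat := (mv A (mv M (mv A (1, 0))), mv A (mv M (mv A (0, 1))))

/-- Identity. -/
def idM : Mat := ((1, 0), (0, 1))

/-- The transvection fixing `(1, 0)`. -/
def tv : Mat := ((1, 0), (1, 1))

/-- The nilpotent matrix fixed by `tv`. -/
def nil : Mat := ((0, 0), (1, 0))

/-- Invertible. -/
def IsInv (M : Mat) : Prop := ∀ v : Vec, mv M v = 0 → v = 0

/-- Nonzero and `1 + M` invertible. -/
def IsShift (M : Mat) : Prop := M ≠ 0 ∧ ∀ v : Vec, v + mv M v = 0 → v = 0

instance isInvDec (M : Mat) : Decidable (IsInv M) := inferInstanceAs (Decidable (∀ _, _))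

instance isShiftDec (M : Mat) : Decidable (IsShift M) := inferInstanceAs (Decidable (_ ∧ _))

theorem mv_add_left : ∀ (M L : Mat) (v : Vec), mv (M + L) v = mv M v + mv L v := by decide

theorem mv_add_right : ∀ (M : Mat) (v w : Vec), mv M (v + w) = mv M v + mv M w := by decide

theorem mv_zero_left : ∀ v : Vec, mv 0 v = 0 := by decide

theorem mv_zero_right : ∀ M : Mat, mv M 0 = 0 := by decide

theorem mv_idM : ∀ v : Vec, mv idM v = v := by decide

theorem mv_one : ∀ M : Mat, mv M (1, 0) = M.1 ∧ mv M (0, 1) = M.2 := by decide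

theorem mv_mc : ∀ (M : Mat) (v : Vec),
    mv (mc tv M) v = mv tv (mv M (mv tv v)) ∧ mv (mc idM M) v = mv M v := by decide

theorem mc_idM : ∀ M : Mat, mc idM M = M := by decide

theorem mc_tv_nil : mc tv nil = nil := by decide

theorem isShift_nil : IsShift nil := by decide

theorem isInv_idM_tv : IsInv idM ∧ IsInv tv ∧ idM + tv = nil := by decide

theorem shift_surj : ∀ M : Mat, IsShift M → ∀ q : Vec, ∃ v, v + mv M v = q := by decide

theorem inv_moves : ∀ v : Vec, v ≠ 0 → ∃ M : Mat, IsInv M ∧ mv M v ≠ v := by decide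

theorem shift_of_fix (v : Vec) (hv : v ≠ 0) (M L : Mat) (hM : IsInv M) (hL : IsInv L)
    (hne : M ≠ L) (hMv : mv M v = v) (hLv : mv L v = v) : IsShift (M + L) :=
  (show ∀ p : Vec × Mat × Mat, (p.1 ≠ 0 ∧ IsInv p.2.1 ∧ IsInv p.2.2 ∧ p.2.1 ≠ p.2.2 ∧
      mv p.2.1 p.1 = p.1 ∧ mv p.2.2 p.1 = p.1) → IsShift (p.2.1 + p.2.2) by decide +kernel)
    (v, M, L) ⟨hv, hM, hL, hne, hMv, hLv⟩

/-- An invertible matrix with `1 + M` invertible. -/
theorem inv_shift : IsInv ((0, 1), (1, 1)) ∧ IsShift ((0, 1), (1, 1)) := by decide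

/-- The idempotents used for the sum rule. -/
theorem idem_rule : ∀ M ∈ ([((1, 0), (0, 0)), ((0, 0), (0, 1)), ((0, 0), (1, 1)),
      ((1, 0), (1, 0))] : List Mat),
    ∃ J : Mat, IsInv J ∧ ∀ q c : Vec, mv M q = 0 → mv J q = c + mv M c → q = 0 := by decide

/-- The matrices commuting with `tv`. -/
def centT : AddSubgroup Mat where
  carrier := {m | mc tv m = m}
  zero_mem' := by decide
  add_mem' := by
    intro a b
    revert a b
    simp only [Set.mem_ofPred_eq]
    decide
  neg_mem' := by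
    intro a
    revert a
    simp only [Set.mem_ofPred_eq]
    decide

theorem mem_centT {m : Mat} : m ∈ centT ↔ mc tv m = m := Iff.rfl

theorem card_centT : Nat.card centT = 4 := by
  rw [show Nat.card centT = Nat.card {m : Mat // mc tv m = m} from rfl, Nat.card_eq_fintype_card]
  decide

theorem mem_centT_three : idM ∈ centT ∧ tv ∈ centT := by
  simp only [mem_centT]
  decide

section hyperplane

variable {L : AddSubgroup Mat}

theorem add_mem_of_eight (h : 8 ≤ Nat.card L) {a b : Mat} (ha : a ∉ L) (hb : b ∉ L) :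
    a + b ∈ L := by
  have h1 := L.index_mul_card
  rw [show Nat.card Mat = 16 by rw [Nat.card_eq_fintype_card]; decide] at h1
  have h2 : L.index ≤ 2 := by
    by_contra hc
    have := Nat.mul_le_mul (Nat.lt_of_not_le hc) h
    omega
  rcases Nat.lt_or_ge L.index 2 with h3 | h3
  · have h4 : L.index = 1 := by
      have : L.index ≠ 0 := AddSubgroup.index_ne_zero_of_finite
      omega
    rw [AddSubgroup.index_eq_one.1 h4] at ha
    exact absurd (AddSubgroup.mem_top a) ha
  · exact (AddSubgroup.add_mem_iff_of_index_two (show L.index = 2 by omega)).2 (iff_of_false ha hb)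

theorem exists_shift (h : 8 ≤ Nat.card L) : ∃ M ∈ L, IsShift M := by
  by_contra hno
  push Not at hno
  have hw : ∀ M : Mat, IsShift M → M ∉ L := fun M hM hML => hno M hML hM
  have h1 : ((1, 0), (0, 1)) ∈ L := by
    have := add_mem_of_eight h (hw ((0, 1), (1, 1)) (by decide)) (hw ((1, 1), (1, 0)) (by decide))
    simpa [show (((0, 1), (1, 1)) + ((1, 1), (1, 0)) : Mat) = ((1, 0), (0, 1)) by decide] using this
  have h2 : ((0, 1), (1, 0)) ∈ L := by
    have := add_mem_of_eight h (hw ((0, 1), (0, 0)) (by decide)) (hw ((0, 0), (1, 0)) (by decide))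
    simpa [show (((0, 1), (0, 0)) + ((0, 0), (1, 0)) : Mat) = ((0, 1), (1, 0)) by decide] using this
  refine hw ((1, 1), (1, 1)) (by decide) ?_
  simpa [show (((1, 0), (0, 1)) + ((0, 1), (1, 0)) : Mat) = ((1, 1), (1, 1)) by decide] using
    add_mem h1 h2

theorem exists_two_inv (h : 8 ≤ Nat.card L) :
    ∃ M ∈ L, ∃ M' ∈ L, IsInv M ∧ IsInv M' ∧ M ≠ M' := by
  have h1 : ∀ a b : Mat, a ∈ L ∨ b ∈ L ∨ a + b ∈ L := fun a b => by
    by_cases ha : a ∈ L
    · exact Or.inl ha
    by_cases hb : b ∈ L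
    · exact Or.inr (Or.inl hb)
    exact Or.inr (Or.inr (add_mem_of_eight h ha hb))
  rcases h1 ((1, 0), (0, 1)) ((0, 1), (1, 1)) with ha | ha | ha <;>
    rcases h1 ((0, 1), (1, 0)) ((1, 0), (1, 1)) with hb | hb | hb <;>
    exact ⟨_, ha, _, hb, by decide, by decide, by decide⟩

/-- A hyperplane invariant under `tv` contains the identity and `tv`. -/
theorem centT_le (h : 8 ≤ Nat.card L) (hinv : ∀ m ∈ L, mc tv m ∈ L) : centT ≤ L := by
  intro z hz
  by_contra hzL
  have key : ∀ z : Mat, mc tv z = z → ∃ m : Mat, mc tv m + m = z ∧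
      ∀ y : Mat, mc tv y = y → mc tv (m + y) + (m + y) = z := by decide
  obtain ⟨m, hm, hm'⟩ := key z hz
  by_cases hmL : m ∈ L
  · exact hzL (hm ▸ add_mem (hinv m hmL) hmL)
  · have h1 := add_mem_of_eight h hmL hzL
    exact hzL (hm' z hz ▸ add_mem (hinv _ h1) h1)

end hyperplane

end CfsgLib.PGroup.FourGen
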