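import Cfsg.Agent.Lib.PGroup.FourGen.Centralizer
import Cfsg.Agent.Lib.PGroup.FourGen.Coord

/-!
# The action on a normal homocyclic subgroup of type (4, 4)
-/

set_option autoImplicit false
set_option linter.unusedSectionVars false
set_option linter.style.haveILetI false

open Subgroup

namespace CfsgLib.PGroup.FourGen

variable {G : Type*} [Group G]

/-- A maximal normal abelian subgroup `N ≅ Z₄ × Z₄` with coordinates on its involutions. -/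
structure Frame (G : Type*) [Group G] where
  /-- the subgroup -/
  N : Subgroup G
  max : MaxFour N
  /-- coordinates -/
  ι : Vec → G
  ι_mem : ∀ v, ι v ∈ N
  ι_add : ∀ v w, ι (v + w) = ι v * ι w
  ι_inj : Function.Injective ι
  ι_surj : ∀ x ∈ N, x ^ 2 = 1 → ∃ v, ι v = x
  lift : ∀ v, ∃ n ∈ N, n ^ 2 = ι v
  fixed : ∀ g : G, g * ι (1, 0) * g⁻¹ = ι (1, 0)

namespace Frame

variable (𝔽 : Frame G)

theorem ι_zero : 𝔽.ι 0 = 1 := by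
  have h := 𝔽.ι_add 0 0
  rw [add_zero] at h
  exact left_eq_mul.1 h

theorem ι_sq (v : Vec) : 𝔽.ι v ^ 2 = 1 := by
  rw [pow_two, ← 𝔽.ι_add, show v + v = 0 from (show ∀ w : Vec, w + w = 0 by decide) v, 𝔽.ι_zero]

theorem ι_inv (v : Vec) : (𝔽.ι v)⁻¹ = 𝔽.ι v :=
  inv_eq_of_mul_eq_one_right (by rw [← pow_two, 𝔽.ι_sq])

theorem eq_zero_of_ι {v : Vec} (h : 𝔽.ι v = 1) : v = 0 := 𝔽.ι_inj (h.trans 𝔽.ι_zero.symm)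

theorem comm {a b : G} (ha : a ∈ 𝔽.N) (hb : b ∈ 𝔽.N) : Commute a b := 𝔽.max.comm a ha b hb

/-- The four group of involutions. -/
def E : Subgroup G where
  carrier := Set.range 𝔽.ι
  one_mem' := ⟨0, 𝔽.ι_zero⟩
  mul_mem' := by rintro _ _ ⟨v, rfl⟩ ⟨w, rfl⟩; exact ⟨v + w, 𝔽.ι_add v w⟩
  inv_mem' := by rintro _ ⟨v, rfl⟩; exact ⟨v, (𝔽.ι_inv v).symm⟩

theorem mem_E {x : G} : x ∈ 𝔽.E ↔ ∃ v, 𝔽.ι v = x := Iff.rfl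

theorem mem_E_iff {x : G} : x ∈ 𝔽.E ↔ x ∈ 𝔽.N ∧ x ^ 2 = 1 :=
  ⟨by rintro ⟨v, rfl⟩; exact ⟨𝔽.ι_mem v, 𝔽.ι_sq v⟩, fun h => 𝔽.ι_surj x h.1 h.2⟩

theorem E_le : 𝔽.E ≤ 𝔽.N := fun _ hx => (𝔽.mem_E_iff.1 hx).1

theorem E_normal : 𝔽.E.Normal := ⟨fun x hx g => by
  rw [𝔽.mem_E_iff] at hx ⊢
  exact ⟨𝔽.max.normal.conj_mem x hx.1 g, by rw [conj_pow, hx.2, mul_one, mul_inv_cancel]⟩⟩

theorem card_E : Nat.card 𝔽.E = 4 := by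
  have h : Nat.card Vec = Nat.card 𝔽.E := Nat.card_congr (Equiv.ofInjective 𝔽.ι 𝔽.ι_inj)
  rw [← h, Nat.card_eq_fintype_card]
  decide

/-- The centraliser of `N`. -/
def C : Subgroup G := centralizer (𝔽.N : Set G)

theorem C_normal : 𝔽.C.Normal := by
  haveI := 𝔽.max.normal
  exact Subgroup.normal_centralizer

theorem N_le_C : 𝔽.N ≤ 𝔽.C := fun a ha => mem_centralizer_iff.2 fun b hb => 𝔽.max.comm b hb a ha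

theorem commute_C {d n : G} (hd : d ∈ 𝔽.C) (hn : n ∈ 𝔽.N) : Commute d n :=
  (mem_centralizer_iff.1 hd n hn).symm

/-- The centraliser of the four group. -/
def X : Subgroup G := centralizer (𝔽.E : Set G)

theorem X_normal : 𝔽.X.Normal := by
  haveI := 𝔽.E_normal
  exact Subgroup.normal_centralizer

theorem C_le_X : 𝔽.C ≤ 𝔽.X := Subgroup.centralizer_le 𝔽.E_le

theorem commute_X {x : G} (hx : x ∈ 𝔽.X) (v : Vec) : Commute x (𝔽.ι v) :=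
  (mem_centralizer_iff.1 hx _ ⟨v, rfl⟩).symm

open Classical in
/-- The action on `E`. -/
noncomputable def A (g : G) : Mat := if g * 𝔽.ι (0, 1) * g⁻¹ = 𝔽.ι (0, 1) then idM else tv

theorem A_cases (g : G) : 𝔽.A g = idM ∨ 𝔽.A g = tv := by
  unfold A
  split_ifs
  exacts [Or.inl rfl, Or.inr rfl]

theorem conj_ι (g : G) (v : Vec) : g * 𝔽.ι v * g⁻¹ = 𝔽.ι (mv (𝔽.A g) v) := by
  obtain ⟨w, hw⟩ := 𝔽.E_normal.conj_mem _ ⟨(0, 1), rfl⟩ g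
  have h1 : w ≠ (1, 0) ∧ w ≠ 0 := by
    constructor <;> rintro rfl
    · rw [← 𝔽.fixed g, mul_left_inj, mul_right_inj] at hw
      exact absurd (𝔽.ι_inj hw) (by decide)
    · rw [𝔽.ι_zero, eq_comm, conj_eq_one_iff] at hw
      exact absurd (𝔽.eq_zero_of_ι hw) (by decide)
  have hA : mv (𝔽.A g) (0, 1) = w := by
    rcases (show ∀ w : Vec, w ≠ (1, 0) → w ≠ 0 → w = (0, 1) ∨ w = (1, 1) by decide) w h1.1 h1.2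
      with rfl | rfl
    · unfold A
      rw [if_pos hw.symm]
      decide
    · unfold A
      rw [if_neg (fun e => absurd (𝔽.ι_inj (hw.trans e)) (by decide))]
      decide
  have hA1 : mv (𝔽.A g) (1, 0) = (1, 0) := by rcases 𝔽.A_cases g with e | e <;> rw [e] <;> decide
  have key : ∀ (a b : Vec), g * 𝔽.ι a * g⁻¹ = 𝔽.ι (mv (𝔽.A g) a) →
      g * 𝔽.ι b * g⁻¹ = 𝔽.ι (mv (𝔽.A g) b) → g * 𝔽.ι (a + b) * g⁻¹ = 𝔽.ι (mv (𝔽.A g) (a + b)) := by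
    intro a b ha hb
    rw [mv_add_right, 𝔽.ι_add, 𝔽.ι_add, ← ha, ← hb]
    group
  have e1 : g * 𝔽.ι (1, 0) * g⁻¹ = 𝔽.ι (mv (𝔽.A g) (1, 0)) := by rw [hA1, 𝔽.fixed]
  have e2 : g * 𝔽.ι (0, 1) * g⁻¹ = 𝔽.ι (mv (𝔽.A g) (0, 1)) := by rw [hA, hw]
  rcases (show ∀ v : Vec, v = 0 ∨ v = (1, 0) ∨ v = (0, 1) ∨ v = (1, 0) + (0, 1) by decide) v
    with rfl | rfl | rfl | rfl
  · rw [mv_zero_right, 𝔽.ι_zero, mul_one, mul_inv_cancel]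
  · exact e1
  · exact e2
  · exact key _ _ e1 e2

theorem mem_X_iff {g : G} : g ∈ 𝔽.X ↔ 𝔽.A g = idM := by
  constructor
  · intro hg
    unfold A
    rw [if_pos (by rw [(𝔽.commute_X hg _).eq, mul_inv_cancel_right])]
  · intro h
    refine mem_centralizer_iff.2 ?_
    rintro _ ⟨v, rfl⟩
    have := 𝔽.conj_ι g v
    rw [h, mv_idM, mul_inv_eq_iff_eq_mul] at this
    exact this.symm

theorem A_eq_tv {g : G} (h : g ∉ 𝔽.X) : 𝔽.A g = tv :=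
  (𝔽.A_cases g).resolve_left fun e => h (𝔽.mem_X_iff.2 e)

/-- Coordinates of an element of `E`. -/
noncomputable def π (x : G) : Vec := Function.invFun 𝔽.ι x

theorem π_ι (v : Vec) : 𝔽.π (𝔽.ι v) = v := Function.leftInverse_invFun 𝔽.ι_inj v

theorem ι_π {x : G} (h : x ∈ 𝔽.E) : 𝔽.ι (𝔽.π x) = x := Function.invFun_eq h

/-- A square root in `N`. -/
noncomputable def u (v : Vec) : G := (𝔽.lift v).choose

theorem u_spec (v : Vec) : 𝔽.u v ∈ 𝔽.N ∧ 𝔽.u v ^ 2 = 𝔽.ι v := (𝔽.lift v).choose_spec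

/-- The matrix of the action of an element of `X` on `N`. -/
noncomputable def M (x : G) : Mat :=
  (𝔽.π ((𝔽.u (1, 0))⁻¹ * (x * 𝔽.u (1, 0) * x⁻¹)),
    𝔽.π ((𝔽.u (0, 1))⁻¹ * (x * 𝔽.u (0, 1) * x⁻¹)))

theorem delta_mem {x n : G} (hx : x ∈ 𝔽.X) (hn : n ∈ 𝔽.N) : n⁻¹ * (x * n * x⁻¹) ∈ 𝔽.E := by
  have hc : x * n * x⁻¹ ∈ 𝔽.N := 𝔽.max.normal.conj_mem n hn x
  have hn2 : n ^ 2 ∈ 𝔽.E := 𝔽.mem_E_iff.2 ⟨pow_mem hn 2, by rw [← pow_mul]; exact 𝔽.max.exp n hn⟩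
  refine 𝔽.mem_E_iff.2 ⟨mul_mem (inv_mem hn) hc, ?_⟩
  obtain ⟨v, hv⟩ := hn2
  rw [(𝔽.comm (inv_mem hn) hc).mul_pow, conj_pow, ← hv, (𝔽.commute_X hx v).eq,
    mul_inv_cancel_right, hv, inv_pow, inv_mul_cancel]

theorem act {x n : G} {v : Vec} (hx : x ∈ 𝔽.X) (hn : n ∈ 𝔽.N) (hv : n ^ 2 = 𝔽.ι v) :
    x * n * x⁻¹ = n * 𝔽.ι (mv (𝔽.M x) v) := by
  have hbase : ∀ w : Vec, w = (1, 0) ∨ w = (0, 1) →
      x * 𝔽.u w * x⁻¹ = 𝔽.u w * 𝔽.ι (mv (𝔽.M x) w) := by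
    intro w hw
    have h1 : 𝔽.ι (𝔽.π ((𝔽.u w)⁻¹ * (x * 𝔽.u w * x⁻¹))) = (𝔽.u w)⁻¹ * (x * 𝔽.u w * x⁻¹) :=
      𝔽.ι_π (𝔽.delta_mem hx (𝔽.u_spec w).1)
    have h2 : mv (𝔽.M x) w = 𝔽.π ((𝔽.u w)⁻¹ * (x * 𝔽.u w * x⁻¹)) := by
      rcases hw with rfl | rfl
      exacts [(mv_one _).1, (mv_one _).2]
    rw [h2, h1, mul_inv_cancel_left]
  have hsplit : ∀ (m : G) (w : Vec), m ∈ 𝔽.N → m ^ 2 = 𝔽.ι w →
      x * m * x⁻¹ = m * 𝔽.ι (mv (𝔽.M x) w) →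
      ∀ n ∈ 𝔽.N, n ^ 2 = 𝔽.ι w → x * n * x⁻¹ = n * 𝔽.ι (mv (𝔽.M x) w) := by
    intro m w hm hm2 hma n hn hn2
    obtain ⟨z, hz⟩ : m⁻¹ * n ∈ 𝔽.E := 𝔽.mem_E_iff.2 ⟨mul_mem (inv_mem hm) hn, by
      rw [(𝔽.comm (inv_mem hm) hn).mul_pow, hn2, inv_pow, hm2, inv_mul_cancel]⟩
    have hn' : n = m * 𝔽.ι z := by rw [hz, mul_inv_cancel_left]
    rw [hn', show x * (m * 𝔽.ι z) * x⁻¹ = x * m * x⁻¹ * (x * 𝔽.ι z * x⁻¹) by group, hma,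
      (𝔽.commute_X hx z).eq, mul_inv_cancel_right, mul_assoc, mul_assoc, ← 𝔽.ι_add, ← 𝔽.ι_add,
      add_comm z]
  have e1 := hbase (1, 0) (Or.inl rfl)
  have e2 := hbase (0, 1) (Or.inr rfl)
  rcases (show ∀ v : Vec, v = 0 ∨ v = (1, 0) ∨ v = (0, 1) ∨ v = (1, 0) + (0, 1) by decide) v
    with rfl | rfl | rfl | rfl
  · refine hsplit 1 0 (one_mem _) (by rw [one_pow, 𝔽.ι_zero]) ?_ n hn hv
    rw [mv_zero_right, 𝔽.ι_zero, mul_one, mul_one, mul_inv_cancel]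
  · exact hsplit _ _ (𝔽.u_spec _).1 (𝔽.u_spec _).2 e1 n hn hv
  · exact hsplit _ _ (𝔽.u_spec _).1 (𝔽.u_spec _).2 e2 n hn hv
  · refine hsplit (𝔽.u (1, 0) * 𝔽.u (0, 1)) _ (mul_mem (𝔽.u_spec _).1 (𝔽.u_spec _).1) ?_ ?_ n hn hv
    · rw [(𝔽.comm (𝔽.u_spec _).1 (𝔽.u_spec _).1).mul_pow, (𝔽.u_spec _).2, (𝔽.u_spec _).2, 𝔽.ι_add]
    · rw [show x * (𝔽.u (1, 0) * 𝔽.u (0, 1)) * x⁻¹ =
        x * 𝔽.u (1, 0) * x⁻¹ * (x * 𝔽.u (0, 1) * x⁻¹) by group, e1, e2, mv_add_right, 𝔽.ι_add]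
      exact (𝔽.comm (𝔽.ι_mem _) (𝔽.u_spec _).1).mul_mul_mul_comm _ _

theorem M_eq {x : G} {L : Mat} (hx : x ∈ 𝔽.X)
    (h : ∀ n ∈ 𝔽.N, ∀ v, n ^ 2 = 𝔽.ι v → x * n * x⁻¹ = n * 𝔽.ι (mv L v)) : 𝔽.M x = L := by
  have e : ∀ v, mv (𝔽.M x) v = mv L v := fun v => by
    have h1 := h _ (𝔽.u_spec v).1 v (𝔽.u_spec v).2
    rw [𝔽.act hx (𝔽.u_spec v).1 (𝔽.u_spec v).2] at h1
    exact 𝔽.ι_inj (mul_left_cancel h1)
  refine Prod.ext ?_ ?_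
  · rw [← (mv_one (𝔽.M x)).1, e, (mv_one L).1]
  · rw [← (mv_one (𝔽.M x)).2, e, (mv_one L).2]

theorem M_mul {x y : G} (hx : x ∈ 𝔽.X) (hy : y ∈ 𝔽.X) : 𝔽.M (x * y) = 𝔽.M x + 𝔽.M y :=
  𝔽.M_eq (mul_mem hx hy) fun n hn v hv => by
    rw [show x * y * n * (x * y)⁻¹ = x * (y * n * y⁻¹) * x⁻¹ by group, 𝔽.act hy hn hv,
      show x * (n * 𝔽.ι (mv (𝔽.M y) v)) * x⁻¹ =
        x * n * x⁻¹ * (x * 𝔽.ι (mv (𝔽.M y) v) * x⁻¹) by group, 𝔽.act hx hn hv,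
      (𝔽.commute_X hx _).eq, mul_inv_cancel_right, mul_assoc, ← 𝔽.ι_add, mv_add_left]

theorem M_eq_zero {x : G} (hx : x ∈ 𝔽.C) : 𝔽.M x = 0 :=
  𝔽.M_eq (𝔽.C_le_X hx) fun n hn v _ => by
    rw [mv_zero_left, 𝔽.ι_zero, mul_one, (𝔽.commute_C hx hn).eq, mul_inv_cancel_right]

theorem mem_C_of_M {x : G} (hx : x ∈ 𝔽.X) (h : 𝔽.M x = 0) : x ∈ 𝔽.C :=
  mem_centralizer_iff.2 fun n hn => by
    obtain ⟨v, hv⟩ := 𝔽.mem_E_iff.2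
      ⟨pow_mem hn 2, show (n ^ 2) ^ 2 = 1 by rw [← pow_mul]; exact 𝔽.max.exp n hn⟩
    have h1 := 𝔽.act hx hn hv.symm
    rw [h, mv_zero_left, 𝔽.ι_zero, mul_one, mul_inv_eq_iff_eq_mul] at h1
    exact h1.symm

theorem M_inv {x : G} (hx : x ∈ 𝔽.X) : 𝔽.M x⁻¹ = 𝔽.M x := by
  have h := 𝔽.M_mul hx (inv_mem hx)
  rw [mul_inv_cancel, 𝔽.M_eq_zero (one_mem _)] at h
  exact (show ∀ a b : Mat, 0 = a + b → b = a by decide) _ _ h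

theorem M_conj (g : G) {x : G} (hx : x ∈ 𝔽.X) :
    𝔽.M (g * x * g⁻¹) = mc (𝔽.A g) (𝔽.M x) := by
  refine 𝔽.M_eq (𝔽.X_normal.conj_mem x hx g) fun n hn v hv => ?_
  have hn' : g⁻¹ * n * g ∈ 𝔽.N := by
    simpa using 𝔽.max.normal.conj_mem n hn g⁻¹
  have hAA : mv (𝔽.A g) (mv (𝔽.A g) v) = v := by
    rcases 𝔽.A_cases g with e | e <;> rw [e]
    exacts [(show ∀ w : Vec, mv idM (mv idM w) = w by decide) v,
      (show ∀ w : Vec, mv tv (mv tv w) = w by decide) v]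
  have hv' : (g⁻¹ * n * g) ^ 2 = 𝔽.ι (mv (𝔽.A g) v) := by
    have h1 := 𝔽.conj_ι g (mv (𝔽.A g) v)
    rw [hAA] at h1
    have h2 : (g⁻¹ * n * g) ^ 2 = g⁻¹ * n ^ 2 * g := by
      simpa using (conj_pow (a := g⁻¹) (b := n) (i := 2))
    rw [h2, hv, ← h1]
    group
  have h3 := 𝔽.act hx hn' hv'
  rw [show g * x * g⁻¹ * n * (g * x * g⁻¹)⁻¹ = g * (x * (g⁻¹ * n * g) * x⁻¹) * g⁻¹ by group, h3,
    show g * (g⁻¹ * n * g * 𝔽.ι (mv (𝔽.M x) (mv (𝔽.A g) v))) * g⁻¹ =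
      n * (g * 𝔽.ι (mv (𝔽.M x) (mv (𝔽.A g) v)) * g⁻¹) by group, 𝔽.conj_ι]
  congr 2
  rcases 𝔽.A_cases g with e | e
  · rw [e, mv_idM, mv_idM, (mv_mc _ _).2]
  · rw [e, (mv_mc _ _).1]

/-- The image of a subgroup of `X`. -/
def img (U : Subgroup G) (hU : U ≤ 𝔽.X) : AddSubgroup Mat where
  carrier := 𝔽.M '' U
  zero_mem' := ⟨1, one_mem U, 𝔽.M_eq_zero (one_mem _)⟩
  add_mem' := by
    rintro _ _ ⟨x, hx, rfl⟩ ⟨y, hy, rfl⟩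
    exact ⟨x * y, mul_mem hx hy, 𝔽.M_mul (hU hx) (hU hy)⟩
  neg_mem' := by
    rintro _ ⟨x, hx, rfl⟩
    exact ⟨x, hx, (show ∀ a : Mat, a = -a by decide) _⟩

theorem mem_img {U : Subgroup G} {hU : U ≤ 𝔽.X} {m : Mat} :
    m ∈ 𝔽.img U hU ↔ ∃ x ∈ U, 𝔽.M x = m := Iff.rfl

theorem card_img [Finite G] {U : Subgroup G} (hU : U ≤ 𝔽.X) :
    Nat.card (𝔽.img U hU) = 𝔽.C.relIndex U := by
  let f : U →* Multiplicative Mat := MonoidHom.mk' (fun x => Multiplicative.ofAdd (𝔽.M x))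
    fun a b => by rw [Subgroup.coe_mul, 𝔽.M_mul (hU a.2) (hU b.2)]; rfl
  have hk : f.ker = 𝔽.C.subgroupOf U := by
    ext x
    exact ⟨fun h => mem_subgroupOf.2 (𝔽.mem_C_of_M (hU x.2) h),
      fun h => 𝔽.M_eq_zero (mem_subgroupOf.1 h)⟩
  rw [relIndex, ← hk, index_ker]
  exact Nat.card_congr (Equiv.subtypeEquiv Multiplicative.ofAdd fun m =>
    ⟨fun ⟨x, hx, e⟩ => ⟨⟨x, hx⟩, e ▸ rfl⟩, fun ⟨x, e⟩ => ⟨x, x.2, Multiplicative.ofAdd.injective e⟩⟩)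

end Frame

end CfsgLib.PGroup.FourGen
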