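import Cfsg.Agent.Lib.PGroup.FourGen.Frame

/-!
# Four generators: the homocyclic case

`Frame.relIndex_le`: if a 2-group without normal `E₈` has a maximal normal abelian subgroup of
exponent four and type (4, 4), every elementary abelian section has order at most sixteen.
-/

set_option autoImplicit false
set_option linter.unusedSectionVars false
set_option linter.style.haveILetI false

open Subgroup

namespace CfsgLib.PGroup.FourGen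

variable {G : Type*} [Group G]

/-- Every normal subgroup of exponent two has order at most four. -/
def NoEight (G : Type*) [Group G] : Prop :=
  ∀ A : Subgroup G, A.Normal → (∀ a ∈ A, a ^ 2 = 1) → Nat.card A ≤ 4

theorem commutator_mem_of_sq {R M : Subgroup G} (hsq : ∀ a ∈ R, a * a ∈ M) {a b : G} (ha : a ∈ R)
    (hb : b ∈ R) : a * b * a⁻¹ * b⁻¹ ∈ M := by
  rw [show a * b * a⁻¹ * b⁻¹ = a * a * (a⁻¹ * b * (a⁻¹ * b)) * (b⁻¹ * b⁻¹) by group]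
  exact mul_mem (mul_mem (hsq a ha) (hsq _ (mul_mem (inv_mem ha) hb))) (hsq _ (inv_mem hb))

theorem relIndex_le_of_map [Finite G] {α : Type*} {R K : Subgroup G} (f : G → α) (s : Finset α)
    (hf : ∀ r ∈ R, f r ∈ s) (hinj : ∀ a ∈ R, ∀ b ∈ R, f a = f b → a⁻¹ * b ∈ K) :
    K.relIndex R ≤ s.card := by
  classical
  let F : R ⧸ K.subgroupOf R → s := fun q => ⟨f (Quotient.out q : R), hf _ (Quotient.out q).2⟩
  have hF : Function.Injective F := fun p q e => by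
    have h1 := hinj _ (Quotient.out p).2 _ (Quotient.out q).2 (congrArg Subtype.val e)
    rw [← QuotientGroup.out_eq' p, ← QuotientGroup.out_eq' q, QuotientGroup.eq, mem_subgroupOf]
    exact h1
  have := Nat.card_le_card_of_injective F hF
  rwa [Nat.card_eq_fintype_card (α := s), Fintype.card_coe] at this

theorem two_le_relIndex [Finite G] {K A : Subgroup G} {z : G} (hz : z ∈ A) (hzK : z ∉ K) :
    2 ≤ K.relIndex A := by
  have h0 : K.relIndex A ≠ 0 := index_ne_zero_of_finite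
  have h1 : K.relIndex A ≠ 1 := fun e => hzK (relIndex_eq_one.1 e hz)
  omega

/-- Index bookkeeping for `F ≤ U ≤ R`. -/
theorem relIndex_split [Finite G] {R U F M : Subgroup G} (hUR : U ≤ R) (hFU : F ≤ U) :
    M.relIndex R * (M ⊓ F).relIndex (M ⊓ U) ≤ U.relIndex R * (F.relIndex U * M.relIndex F) := by
  have h1 : (M ⊓ F).relIndex (M ⊓ U) * (M ⊓ U).relIndex U = (M ⊓ F).relIndex F * F.relIndex U := by
    rw [relIndex_mul_relIndex _ _ _ (inf_le_inf_left M hFU) inf_le_right,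
      relIndex_mul_relIndex _ _ _ inf_le_right hFU]
  rw [inf_relIndex_right, inf_relIndex_right] at h1
  have h2 : M.relIndex R ≤ M.relIndex U * U.relIndex R := by
    rw [← inf_relIndex_right M U, relIndex_mul_relIndex _ _ _ inf_le_right hUR]
    exact Nat.le_of_dvd (Nat.pos_of_ne_zero index_ne_zero_of_finite)
      (relIndex_dvd_of_le_left _ inf_le_left)
  refine (Nat.mul_le_mul_right _ h2).trans (le_of_eq ?_)
  rw [mul_comm (M.relIndex U), mul_assoc, mul_comm (M.relIndex U), h1, mul_comm (M.relIndex F)]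

namespace Frame

variable (𝔽 : Frame G)

/-- An element acting by a fixed shift, centralising an abelian `C/E`. -/
structure Good (x : G) : Prop where
  mem : x ∈ 𝔽.X
  shift : IsShift (𝔽.M x)
  fix : ∀ g, mc (𝔽.A g) (𝔽.M x) = 𝔽.M x
  cent : ∀ d ∈ 𝔽.C, x * d * x⁻¹ * d⁻¹ ∈ 𝔽.E
  ab : ∀ d ∈ 𝔽.C, ∀ d' ∈ 𝔽.C, d * d' * d⁻¹ * d'⁻¹ ∈ 𝔽.E

theorem X_comm {x e : G} (hx : x ∈ 𝔽.X) (he : e ∈ 𝔽.E) : Commute x e := by
  obtain ⟨v, rfl⟩ := he
  exact 𝔽.commute_X hx v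

variable [Finite G]

theorem Good.not_sq (hG : IsPGroup 2 G) (h8 : NoEight G) {x : G} (h : 𝔽.Good x) {d : G}
    (hd : d ∈ 𝔽.C) : x * x * (d * d)⁻¹ ∉ 𝔽.E := by
  intro hsq
  haveI := 𝔽.E_normal
  have hdX := 𝔽.C_le_X hd
  set e := x * d * x⁻¹ * d⁻¹ with he
  have heE : e ∈ 𝔽.E := h.cent d hd
  have h1 : x⁻¹ * d⁻¹ * x = d⁻¹ * e := by
    have e1 : x * d * x⁻¹ = e * d := by rw [he]; group
    have e2 : x⁻¹ * e * x = e := by
      rw [mul_assoc, (𝔽.X_comm h.mem heE).symm.eq, inv_mul_cancel_left]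
    have e3 : d = e * (x⁻¹ * d * x) := by
      nth_rw 1 [← e2]
      rw [show x⁻¹ * e * x * (x⁻¹ * d * x) = x⁻¹ * (e * d) * x by group, ← e1]
      group
    conv_rhs => rw [e3]
    group
  set t₀ := x * d⁻¹ with ht₀
  have ht₀2 : t₀ * t₀ ∈ 𝔽.E := by
    rw [show t₀ * t₀ = x * x * (x⁻¹ * d⁻¹ * x) * d⁻¹ by rw [ht₀]; group, h1,
      show x * x * (d⁻¹ * e) * d⁻¹ = x * x * (d⁻¹ * (e * d⁻¹)) by group,
      (𝔽.X_comm (inv_mem hdX) heE).symm.eq,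
      show x * x * (d⁻¹ * (d⁻¹ * e)) = x * x * (d * d)⁻¹ * e by group]
    exact mul_mem hsq heE
  obtain ⟨q, hq⟩ := ht₀2
  have hMt₀ : 𝔽.M t₀ = 𝔽.M x := by
    rw [ht₀, 𝔽.M_mul h.mem (inv_mem hdX), 𝔽.M_eq_zero (inv_mem hd), add_zero]
  have ht₀X : t₀ ∈ 𝔽.X := mul_mem h.mem (inv_mem hdX)
  obtain ⟨v, hv⟩ := shift_surj _ h.shift q
  obtain ⟨hn, hn2⟩ := 𝔽.u_spec v
  set n := 𝔽.u v with hndef
  set t := t₀ * n with ht
  have htX : t ∈ 𝔽.X := mul_mem ht₀X (𝔽.C_le_X (𝔽.N_le_C hn))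
  have hMt : 𝔽.M t = 𝔽.M x := by
    rw [ht, 𝔽.M_mul ht₀X (𝔽.C_le_X (𝔽.N_le_C hn)), 𝔽.M_eq_zero (𝔽.N_le_C hn), add_zero, hMt₀]
  have htt : t * t = 1 := by
    have h2 := 𝔽.act (inv_mem ht₀X) hn hn2
    rw [inv_inv, 𝔽.M_inv ht₀X, hMt₀] at h2
    rw [show t * t = t₀ * t₀ * (t₀⁻¹ * n * t₀) * n by rw [ht]; group, h2, ← hq,
      show 𝔽.ι q * (n * 𝔽.ι (mv (𝔽.M x) v)) * n = 𝔽.ι q * (n * (𝔽.ι (mv (𝔽.M x) v) * n)) by group,
      (𝔽.comm (𝔽.ι_mem _) hn).eq, ← mul_assoc n, ← pow_two, hn2, ← 𝔽.ι_add, ← 𝔽.ι_add, hv,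
      show q + q = 0 from (show ∀ w : Vec, w + w = 0 by decide) q, 𝔽.ι_zero]
  have htinv : t⁻¹ = t := inv_eq_of_mul_eq_one_right htt
  have htC : ∀ d' ∈ 𝔽.C, t * d' * t⁻¹ * d'⁻¹ ∈ 𝔽.E := by
    intro d' hd'
    have hc : d⁻¹ * n ∈ 𝔽.C := mul_mem (inv_mem hd) (𝔽.N_le_C hn)
    rw [show t * d' * t⁻¹ * d'⁻¹ = x * ((d⁻¹ * n) * d' * (d⁻¹ * n)⁻¹ * d'⁻¹) * x⁻¹ *
      (x * d' * x⁻¹ * d'⁻¹) by rw [ht, ht₀]; group]
    exact mul_mem (Subgroup.Normal.conj_mem inferInstance _ (h.ab _ hc _ hd') x) (h.cent _ hd')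
  -- conjugates of `t`
  have hconj : ∀ g, t⁻¹ * (g * t * g⁻¹) ∈ 𝔽.E := by
    intro g
    set d' := t⁻¹ * (g * t * g⁻¹) with hd'def
    have hgX : g * t * g⁻¹ ∈ 𝔽.X := 𝔽.X_normal.conj_mem t htX g
    have hd'C : d' ∈ 𝔽.C := by
      refine 𝔽.mem_C_of_M (mul_mem (inv_mem htX) hgX) ?_
      rw [𝔽.M_mul (inv_mem htX) hgX, 𝔽.M_inv htX, 𝔽.M_conj g htX, hMt, h.fix]
      exact (show ∀ m : Mat, m + m = 0 by decide) _
    have hg : g * t * g⁻¹ = t * d' := by rw [hd'def, mul_inv_cancel_left]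
    have h2 : t * d' * (t * d') = 1 := by
      rw [← hg, show g * t * g⁻¹ * (g * t * g⁻¹) = g * (t * t) * g⁻¹ by group, htt, mul_one,
        mul_inv_cancel]
    have h3 : t * d' * t⁻¹ * d' = 1 := by rw [htinv]; simpa [mul_assoc] using h2
    have h4 : d' * d' ∈ 𝔽.E := by
      have h5 : d' * d' = (t * d' * t⁻¹ * d'⁻¹)⁻¹ := by
        rw [eq_inv_iff_mul_eq_one]
        calc d' * d' * (t * d' * t⁻¹ * d'⁻¹) = d' * d' * (t * d' * t⁻¹ * d'⁻¹) * (d' * d') *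
              (d' * d')⁻¹ := by group
          _ = d' * d' * ((t * d' * t⁻¹ * d')) * (d' * d')⁻¹ := by group
          _ = 1 := by rw [h3]; group
      rw [h5]
      exact inv_mem (htC _ hd'C)
    obtain ⟨w, hw⟩ := h4
    have h6 : d' ^ 4 = 1 := by
      rw [show d' ^ 4 = (d' * d') ^ 2 by rw [← pow_two, ← pow_mul], ← hw, 𝔽.ι_sq]
    have hdN : d' ∈ 𝔽.N := 𝔽.max.mem_of_pow_four hG hd'C h6
    have h7 := 𝔽.act htX hdN (by rw [pow_two, hw])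
    rw [hMt] at h7
    rw [h7, mul_assoc, (𝔽.comm (𝔽.ι_mem _) hdN).eq, ← mul_assoc, ← hw, ← 𝔽.ι_add] at h3
    have h8' := h.shift.2 w (𝔽.eq_zero_of_ι h3)
    refine 𝔽.mem_E_iff.2 ⟨hdN, ?_⟩
    rw [pow_two, ← hw, h8', 𝔽.ι_zero]
  -- a normal subgroup of order eight
  set B := 𝔽.E ⊔ zpowers t with hB
  have htB : t ∈ B := mem_sup_right (mem_zpowers t)
  have hBn : B.Normal := ⟨fun b hb g => by
    obtain ⟨e', he', y, ⟨i, rfl⟩, rfl⟩ := mem_sup_of_normal_left.1 hb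
    rw [show g * (e' * t ^ i) * g⁻¹ = g * e' * g⁻¹ * (g * t * g⁻¹) ^ i by
      rw [conj_zpow]; group]
    refine mul_mem (mem_sup_left (Subgroup.Normal.conj_mem inferInstance e' he' g)) (zpow_mem ?_ i)
    rw [← mul_inv_cancel_left t (g * t * g⁻¹)]
    exact mul_mem htB (mem_sup_left (hconj g))⟩
  have hB2 : ∀ b ∈ B, b ^ 2 = 1 := fun b hb => by
    obtain ⟨e', he', y, ⟨i, rfl⟩, rfl⟩ := mem_sup_of_normal_left.1 hb
    show (e' * t ^ i) ^ 2 = 1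
    rw [((𝔽.X_comm htX he').zpow_left i).symm.mul_pow, (𝔽.mem_E_iff.1 he').2, one_mul,
      ← zpow_natCast, ← zpow_mul, mul_comm, zpow_mul, zpow_natCast, pow_two, htt, one_zpow]
  have htE : t ∉ 𝔽.E := fun h' => h.shift.1 (by
    rw [← hMt, 𝔽.M_eq_zero (𝔽.N_le_C (𝔽.E_le h'))])
  have h9 := h8 B hBn hB2
  rw [← 𝔽.card_E] at h9
  exact htE ((eq_of_le_of_card_ge (le_sup_left : 𝔽.E ≤ B) h9).ge htB)

theorem inv_sq (hG : IsPGroup 2 G) {y : G} (hy : y ∈ 𝔽.X) (hi : IsInv (𝔽.M y)) :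
    y * y ∈ 𝔽.E := by
  have hC : y * y ∈ 𝔽.C := 𝔽.mem_C_of_M (mul_mem hy hy) (by
    rw [𝔽.M_mul hy hy]; exact (show ∀ m : Mat, m + m = 0 by decide) _)
  have key : ∀ k : ℕ, ((y * y) ^ k) ∈ 𝔽.N → ((y * y) ^ k) ^ 2 = 1 := by
    intro k hk
    obtain ⟨v, hv⟩ := 𝔽.mem_E_iff.2
      ⟨pow_mem hk 2, show (((y * y) ^ k) ^ 2) ^ 2 = 1 by rw [← pow_mul]; exact 𝔽.max.exp _ hk⟩
    have h1 := 𝔽.act hy hk hv.symm
    rw [((Commute.refl y).mul_right (Commute.refl y) |>.pow_right k).eq, mul_inv_cancel_right,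
      left_eq_mul] at h1
    rw [← hv, hi v (𝔽.eq_zero_of_ι h1), 𝔽.ι_zero]
  have h4 : (y * y) ^ 4 = 1 := by
    by_contra hc
    obtain ⟨k, -, ho⟩ := exists_pow_order_four hG hc
    have h1 := key (2 ^ k) (𝔽.max.mem_of_pow_four hG (pow_mem hC _) (ho ▸ pow_orderOf_eq_one _))
    have h2 := orderOf_dvd_iff_pow_eq_one.2 h1
    rw [ho] at h2
    norm_num at h2
  have hN := 𝔽.max.mem_of_pow_four hG hC h4
  exact 𝔽.mem_E_iff.2 ⟨hN, by simpa using key 1 (by simpa using hN)⟩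

theorem inv_conj (hG : IsPGroup 2 G) {y : G} (hy : y ∈ 𝔽.X) (hi : IsInv (𝔽.M y)) {d : G}
    (hd : d ∈ 𝔽.C) : y * d * y⁻¹ * d ∈ 𝔽.E := by
  have h1 : d * y * (d * y) ∈ 𝔽.E := 𝔽.inv_sq hG (mul_mem (𝔽.C_le_X hd) hy) (by
    rwa [𝔽.M_mul (𝔽.C_le_X hd) hy, 𝔽.M_eq_zero hd, zero_add])
  have h2 := mul_mem h1 (inv_mem (𝔽.inv_sq hG hy hi))
  have h3 := 𝔽.E_normal.conj_mem _ h2 d⁻¹
  rwa [show d⁻¹ * (d * y * (d * y) * (y * y)⁻¹) * d⁻¹⁻¹ = y * d * y⁻¹ * d by group] at h3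

theorem inv_abelian (hG : IsPGroup 2 G) {y : G} (hy : y ∈ 𝔽.X) (hi : IsInv (𝔽.M y)) {d d' : G}
    (hd : d ∈ 𝔽.C) (hd' : d' ∈ 𝔽.C) : d * d' * d⁻¹ * d'⁻¹ ∈ 𝔽.E := by
  haveI := 𝔽.E_normal
  set p := QuotientGroup.mk' 𝔽.E with hp
  have hc : ∀ z ∈ 𝔽.C, p y * p z * (p y)⁻¹ = (p z)⁻¹ := fun z hz =>
    eq_inv_of_mul_eq_one_left (by
      rw [← map_inv, ← map_mul, ← map_mul, ← map_mul]
      exact (QuotientGroup.eq_one_iff _).2 (𝔽.inv_conj hG hy hi hz))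
  have h1 := hc _ (mul_mem hd hd')
  rw [map_mul, show p y * (p d * p d') * (p y)⁻¹ = p y * p d * (p y)⁻¹ * (p y * p d' * (p y)⁻¹) by
    group, hc d hd, hc d' hd', mul_inv_rev] at h1
  refine (QuotientGroup.eq_one_iff _).1 ?_
  show p (d * d' * d⁻¹ * d'⁻¹) = 1
  rw [map_mul, map_mul, map_mul, map_inv, map_inv, mul_assoc, h1]
  group

theorem good_of_two (hG : IsPGroup 2 G) {y₁ y₂ : G} (h₁ : y₁ ∈ 𝔽.X) (h₂ : y₂ ∈ 𝔽.X)
    (hi₁ : IsInv (𝔽.M y₁)) (hi₂ : IsInv (𝔽.M y₂)) (hs : IsShift (𝔽.M y₁ + 𝔽.M y₂))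
    (hf : ∀ g, mc (𝔽.A g) (𝔽.M y₁ + 𝔽.M y₂) = 𝔽.M y₁ + 𝔽.M y₂) : 𝔽.Good (y₁ * y₂) where
  mem := mul_mem h₁ h₂
  shift := by rwa [𝔽.M_mul h₁ h₂]
  fix := by rwa [𝔽.M_mul h₁ h₂]
  ab _ hd _ hd' := 𝔽.inv_abelian hG h₁ hi₁ hd hd'
  cent d hd := by
    haveI := 𝔽.E_normal
    have hd2 : y₂ * d * y₂⁻¹ ∈ 𝔽.C := 𝔽.C_normal.conj_mem d hd y₂
    set e := y₂ * d * y₂⁻¹ * d with he
    have heE : e ∈ 𝔽.E := 𝔽.inv_conj hG h₂ hi₂ hd
    have h3 := 𝔽.inv_conj hG h₁ hi₁ (inv_mem hd)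
    rw [show y₁ * y₂ * d * (y₁ * y₂)⁻¹ * d⁻¹ = y₁ * e * y₁⁻¹ * (y₁ * d⁻¹ * y₁⁻¹ * d⁻¹) by
      rw [he]; group]
    exact mul_mem (Subgroup.Normal.conj_mem inferInstance e heE y₁) h3

theorem good_of_le (hCN : 𝔽.C ≤ 𝔽.N) {x : G} (hx : x ∈ 𝔽.X) (hs : IsShift (𝔽.M x))
    (hf : ∀ g, mc (𝔽.A g) (𝔽.M x) = 𝔽.M x) : 𝔽.Good x where
  mem := hx
  shift := hs
  fix := hf
  cent d hd := by
    have h1 := 𝔽.delta_mem hx (hCN hd)
    rwa [(𝔽.comm (inv_mem (hCN hd)) (𝔽.max.normal.conj_mem d (hCN hd) x)).eq] at h1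
  ab d hd d' hd' := by
    rw [(𝔽.comm (hCN hd) (hCN hd')).eq, mul_inv_cancel_right, mul_inv_cancel]
    exact one_mem _

/-- When `C ≠ N` the invertible matrices fix a common nonzero vector. -/
theorem exists_fixed (hG : IsPGroup 2 G) (hCN : ¬ 𝔽.C ≤ 𝔽.N) :
    ∃ v : Vec, v ≠ 0 ∧ ∀ y ∈ 𝔽.X, IsInv (𝔽.M y) → mv (𝔽.M y) v = v := by
  obtain ⟨c, hc, hcN⟩ := SetLike.not_le_iff_exists.1 hCN
  obtain ⟨k, ⟨j, hj⟩, ho⟩ :=
    exists_pow_order_four hG (fun e => hcN (𝔽.max.mem_of_pow_four hG hc e))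
  set n := c ^ 2 ^ k with hn
  have hnN : n ∈ 𝔽.N := 𝔽.max.mem_of_pow_four hG (pow_mem hc _) (ho ▸ pow_orderOf_eq_one n)
  obtain ⟨v, hv⟩ := 𝔽.mem_E_iff.2
    ⟨pow_mem hnN 2, show (n ^ 2) ^ 2 = 1 by rw [← pow_mul]; exact 𝔽.max.exp n hnN⟩
  refine ⟨v, fun e => ?_, fun y hy hi => ?_⟩
  · rw [e, 𝔽.ι_zero] at hv
    have h2 := orderOf_dvd_iff_pow_eq_one.2 hv.symm
    rw [ho] at h2
    norm_num at h2
  · set e := y * c ^ j * y⁻¹ * c ^ j with he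
    have heE : e ∈ 𝔽.E := 𝔽.inv_conj hG hy hi (pow_mem hc j)
    have h1 : y * c ^ j * y⁻¹ = e * (c ^ j)⁻¹ := by rw [he, mul_inv_cancel_right]
    have h2 : y * n * y⁻¹ = n⁻¹ := by
      have hcm : Commute e (c ^ j)⁻¹ :=
        (𝔽.commute_C (inv_mem (pow_mem hc j)) (𝔽.E_le heE)).symm
      rw [hn, hj, ← mul_two, pow_mul, ← conj_pow, h1, hcm.mul_pow, (𝔽.mem_E_iff.1 heE).2, one_mul,
        inv_pow]
    rw [𝔽.act hy hnN hv.symm, eq_inv_iff_mul_eq_one, mul_assoc, (𝔽.comm (𝔽.ι_mem _) hnN).eq,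
      ← mul_assoc, ← pow_two, ← hv, ← 𝔽.ι_add] at h2
    exact (show ∀ a b : Vec, a + b = 0 → b = a by decide) _ _ (𝔽.eq_zero_of_ι h2)

theorem idem_sq (hCN : 𝔽.C ≤ 𝔽.N) (hall : ∀ m : Mat, ∃ x ∈ 𝔽.X, 𝔽.M x = m) {x : G}
    (hx : x ∈ 𝔽.X) (hm : 𝔽.M x ∈ ([((1, 0), (0, 0)), ((0, 0), (0, 1)), ((0, 0), (1, 1)),
      ((1, 0), (1, 0))] : List Mat)) : x * x ∈ 𝔽.E := by
  have hM2 : ∀ m : Mat, m + m = 0 := by decide
  obtain ⟨J, -, hJ⟩ := idem_rule _ hm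
  obtain ⟨y, hy, rfl⟩ := hall J
  have hs : x * x ∈ 𝔽.N := hCN (𝔽.mem_C_of_M (mul_mem hx hx) (by rw [𝔽.M_mul hx hx]; exact hM2 _))
  have hgX : y * x * y⁻¹ ∈ 𝔽.X := 𝔽.X_normal.conj_mem x hx y
  set c := x⁻¹ * (y * x * y⁻¹) with hc
  have hcN : c ∈ 𝔽.N := hCN (𝔽.mem_C_of_M (mul_mem (inv_mem hx) hgX) (by
    rw [𝔽.M_mul (inv_mem hx) hgX, 𝔽.M_inv hx, 𝔽.M_conj y hx, (𝔽.mem_X_iff.1 hy), mc_idM]
    exact hM2 _))
  obtain ⟨q, hq⟩ := 𝔽.mem_E_iff.2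
    ⟨pow_mem hs 2, show ((x * x) ^ 2) ^ 2 = 1 by rw [← pow_mul]; exact 𝔽.max.exp _ hs⟩
  obtain ⟨w, hw⟩ := 𝔽.mem_E_iff.2
    ⟨pow_mem hcN 2, show (c ^ 2) ^ 2 = 1 by rw [← pow_mul]; exact 𝔽.max.exp _ hcN⟩
  have h1 := 𝔽.act hx hs hq.symm
  rw [show x * (x * x) * x⁻¹ = x * x by group, left_eq_mul] at h1
  have h2 := 𝔽.act hy hs hq.symm
  have h3 : y * (x * x) * y⁻¹ = x * x * 𝔽.ι (w + mv (𝔽.M x) w) := by
    have e1 : y * x * y⁻¹ = x * c := by rw [hc, mul_inv_cancel_left]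
    have e2 := 𝔽.act (inv_mem hx) hcN hw.symm
    rw [inv_inv, 𝔽.M_inv hx] at e2
    rw [show y * (x * x) * y⁻¹ = y * x * y⁻¹ * (y * x * y⁻¹) by group, e1,
      show x * c * (x * c) = x * x * (x⁻¹ * c * x * c) by group, e2, 𝔽.ι_add, hw, pow_two,
      mul_assoc c, (𝔽.comm (𝔽.ι_mem _) hcN).eq, ← mul_assoc]
    group
  rw [h2, mul_right_inj] at h3
  have hq0 := hJ q w (𝔽.eq_zero_of_ι h1) (𝔽.ι_inj h3)
  exact 𝔽.mem_E_iff.2 ⟨hs, by rw [← hq, hq0, 𝔽.ι_zero]⟩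

theorem not_all (hG : IsPGroup 2 G) (h8 : NoEight G) : ¬ ∀ m : Mat, ∃ x ∈ 𝔽.X, 𝔽.M x = m := by
  intro hall
  haveI := 𝔽.E_normal
  by_cases hCN : 𝔽.C ≤ 𝔽.N
  · by_cases hX : ∀ g, g ∈ 𝔽.X
    · obtain ⟨x, hx, hm⟩ := hall ((0, 1), (1, 1))
      have hgood := 𝔽.good_of_le hCN hx (hm ▸ inv_shift.2) fun g => by
        rw [𝔽.mem_X_iff.1 (hX g), mc_idM]
      refine hgood.not_sq 𝔽 hG h8 (d := 1) (one_mem _) ?_
      simpa using 𝔽.inv_sq hG hx (hm ▸ inv_shift.1)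
    · obtain ⟨a, ha, hma⟩ := hall ((1, 0), (0, 0))
      obtain ⟨b, hb, hmb⟩ := hall idM
      obtain ⟨c, hc, hmc⟩ := hall tv
      have hgood := 𝔽.good_of_le hCN (mul_mem hb hc)
        (by rw [𝔽.M_mul hb hc, hmb, hmc, isInv_idM_tv.2.2]; exact isShift_nil)
        (fun g => by
          rw [𝔽.M_mul hb hc, hmb, hmc, isInv_idM_tv.2.2]
          rcases 𝔽.A_cases g with e | e <;> rw [e]
          exacts [mc_idM _, mc_tv_nil])
      refine hgood.not_sq 𝔽 hG h8 (d := 1) (one_mem _) ?_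
      set p := QuotientGroup.mk' 𝔽.E
      have h1 : ∀ z ∈ 𝔽.X, (IsInv (𝔽.M z) ∨ 𝔽.M z ∈ ([((1, 0), (0, 0)), ((0, 0), (0, 1)),
          ((0, 0), (1, 1)), ((1, 0), (1, 0))] : List Mat)) → p z * p z = 1 := by
        intro z hz hor
        rw [← map_mul]
        refine (QuotientGroup.eq_one_iff _).2 ?_
        rcases hor with h | h
        exacts [𝔽.inv_sq hG hz h, 𝔽.idem_sq hCN hall hz h]
      have hA := h1 a ha (Or.inr (by rw [hma]; decide))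
      have hB := h1 b hb (Or.inl (by rw [hmb]; decide))
      have hC := h1 c hc (Or.inl (by rw [hmc]; decide))
      have hAB := h1 (a * b) (mul_mem ha hb) (Or.inr (by rw [𝔽.M_mul ha hb, hma, hmb]; decide))
      have hAC := h1 (a * c) (mul_mem ha hc) (Or.inr (by rw [𝔽.M_mul ha hc, hma, hmc]; decide))
      have hABC := h1 (a * b * c) (mul_mem (mul_mem ha hb) hc) (Or.inr (by
        rw [𝔽.M_mul (mul_mem ha hb) hc, 𝔽.M_mul ha hb, hma, hmb, hmc]; decide))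
      rw [one_mul, inv_one, mul_one]
      refine (QuotientGroup.eq_one_iff _).1 ?_
      show p (b * c * (b * c)) = 1
      simp only [map_mul] at hAB hAC hABC ⊢
      have ia : (p a)⁻¹ = p a := inv_eq_of_mul_eq_one_right hA
      have ib : (p b)⁻¹ = p b := inv_eq_of_mul_eq_one_right hB
      have ic : (p c)⁻¹ = p c := inv_eq_of_mul_eq_one_right hC
      have cab : p a * p b = p b * p a := by
        have := inv_eq_of_mul_eq_one_right hAB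
        rwa [mul_inv_rev, ia, ib, eq_comm] at this
      have cac : p a * p c = p c * p a := by
        have := inv_eq_of_mul_eq_one_right hAC
        rwa [mul_inv_rev, ia, ic, eq_comm] at this
      rw [← hABC]
      rw [mul_assoc (p a) (p b) (p c),
        (Commute.mul_right (cab : Commute (p a) (p b)) cac).symm.mul_mul_mul_comm, hA, one_mul]
  · obtain ⟨v, hv, hfix⟩ := 𝔽.exists_fixed hG hCN
    obtain ⟨m, hmi, hmv⟩ := inv_moves v hv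
    obtain ⟨y, hy, rfl⟩ := hall m
    exact hmv (hfix y hy hmi)

theorem relIndex_C_le (hG : IsPGroup 2 G) (h8 : NoEight G) {R M : Subgroup G}
    (hsq : ∀ a ∈ R, a * a ∈ M) {w : G} (hw : w ∈ R) (hgood : 𝔽.Good w) :
    M.relIndex (R ⊓ 𝔽.C) ≤ 2 := by
  haveI := 𝔽.E_normal
  set p := QuotientGroup.mk' 𝔽.E with hp
  have hpc : ∀ a ∈ 𝔽.C, ∀ b ∈ 𝔽.C, Commute (p a) (p b) := fun a ha b hb => by
    show p a * p b = p b * p a
    have h1 : p (a * b * a⁻¹ * b⁻¹) = 1 := (QuotientGroup.eq_one_iff _).2 (hgood.ab a ha b hb)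
    rw [map_mul, map_mul, map_mul, map_inv, map_inv] at h1
    exact mul_inv_eq_iff_eq_mul.1 (mul_inv_eq_one.1 h1)
  let D : Subgroup G :=
    { carrier := {f | f ∈ 𝔽.C ∧ ∃ d ∈ 𝔽.C, p f = p d * p d}
      one_mem' := ⟨one_mem _, 1, one_mem _, by simp⟩
      mul_mem' := by
        rintro a b ⟨ha, d, hd, hd'⟩ ⟨hb, e, he, he'⟩
        refine ⟨mul_mem ha hb, d * e, mul_mem hd he, ?_⟩
        rw [map_mul, map_mul, hd', he', (hpc d hd e he).mul_mul_mul_comm]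
      inv_mem' := by
        rintro a ⟨ha, d, hd, hd'⟩
        exact ⟨inv_mem ha, d⁻¹, inv_mem hd, by rw [map_inv, map_inv, hd', mul_inv_rev]⟩ }
  set F := R ⊓ 𝔽.C with hF
  have hFsq : ∀ a ∈ F, a * a ∈ M ⊓ D ⊓ F := fun a ha =>
    ⟨⟨hsq a ha.1, ⟨mul_mem ha.2 ha.2, a, ha.2, map_mul _ _ _⟩⟩, mul_mem ha ha⟩
  have h4 : (M ⊓ D ⊓ F).relIndex F ≤ 4 := 𝔽.card_E ▸ relIndex_le_omega hG (F := F)
    (fun a ha h4 b hb => ((𝔽.commute_C hb.2 (𝔽.max.mem_of_pow_four hG ha.2 h4)).symm).eq) hFsq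
    (fun a ha h2 => 𝔽.mem_E_iff.2 ⟨𝔽.max.mem_of_pow_four hG ha.2
      (by rw [show a ^ 4 = (a ^ 2) ^ 2 by rw [← pow_mul], h2, one_pow]), h2⟩)
  have hwC : w * w ∈ 𝔽.C := 𝔽.mem_C_of_M (mul_mem hgood.mem hgood.mem) (by
    rw [𝔽.M_mul hgood.mem hgood.mem]; exact (show ∀ m : Mat, m + m = 0 by decide) _)
  have h2 : 2 ≤ (M ⊓ D ⊓ F).relIndex (M ⊓ F) :=
    two_le_relIndex (z := w * w) ⟨hsq w hw, mul_mem hw hw, hwC⟩ fun h => by
      obtain ⟨d, hd, hd'⟩ := h.1.2.2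
      refine hgood.not_sq 𝔽 hG h8 hd ((QuotientGroup.eq_one_iff _).1 ?_)
      show p (w * w * (d * d)⁻¹) = 1
      rw [map_mul, map_inv, hd', ← map_mul, mul_inv_cancel]
  rw [← relIndex_mul_relIndex _ _ _ (inf_le_inf_right F inf_le_left) inf_le_right,
    inf_relIndex_right] at h4
  have h5 := Nat.mul_le_mul_right (M.relIndex F) h2
  omega

theorem exists_good_centT (hG : IsPGroup 2 G) {R : Subgroup G}
    (hZ : centT ≤ 𝔽.img (R ⊓ 𝔽.X) inf_le_right) : ∃ w ∈ R, 𝔽.Good w := by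
  obtain ⟨x, hx, hmx⟩ := hZ mem_centT_three.1
  obtain ⟨x', hx', hmx'⟩ := hZ mem_centT_three.2
  refine ⟨x * x', mul_mem hx.1 hx'.1, 𝔽.good_of_two hG hx.2 hx'.2 ?_ ?_ ?_ fun g => ?_⟩
  · rw [hmx]; exact isInv_idM_tv.1
  · rw [hmx']; exact isInv_idM_tv.2.1
  · rw [hmx, hmx', isInv_idM_tv.2.2]; exact isShift_nil
  · rw [hmx, hmx', isInv_idM_tv.2.2]
    rcases 𝔽.A_cases g with e | e <;> rw [e]
    exacts [mc_idM _, mc_tv_nil]

include 𝔽 in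
/-- **The homocyclic case of the four generator theorem.** -/
theorem relIndex_le (hG : IsPGroup 2 G) (h8 : NoEight G) {R M : Subgroup G}
    (hsq : ∀ a ∈ R, a * a ∈ M) : M.relIndex R ≤ 16 := by
  classical
  set U := R ⊓ 𝔽.X with hU
  set F := R ⊓ 𝔽.C with hF
  have hr : U.relIndex R ≤ 2 := by
    refine (relIndex_le_of_map (K := U) (fun g => decide (g ∈ 𝔽.X)) Finset.univ (fun _ _ => Finset.mem_univ _)
      fun a ha b hb e => mem_inf.2 ⟨R.mul_mem (R.inv_mem ha) hb, ?_⟩).trans (le_of_eq Fintype.card_bool)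
    by_cases haX : a ∈ 𝔽.X
    · exact mul_mem (inv_mem haX) (by simpa [haX] using e)
    · have hbX : b ∉ 𝔽.X := by simpa [haX] using e
      have hA : 𝔽.A a = tv ∧ 𝔽.A b = tv := ⟨𝔽.A_eq_tv haX, 𝔽.A_eq_tv hbX⟩
      refine mem_centralizer_iff.2 ?_
      rintro _ ⟨v, rfl⟩
      have h1 := 𝔽.conj_ι a v
      have h2 := 𝔽.conj_ι b v
      rw [hA.1] at h1
      rw [hA.2, ← h1] at h2
      calc 𝔽.ι v * (a⁻¹ * b) = a⁻¹ * (a * 𝔽.ι v * a⁻¹) * b := by group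
        _ = a⁻¹ * (b * 𝔽.ι v * b⁻¹) * b := by rw [h2]
        _ = a⁻¹ * b * 𝔽.ι v := by group
  have hi4 : M.relIndex F ≤ 4 := 𝔽.card_E ▸ relIndex_le_omega hG (F := F)
    (fun a ha h4 b hb => ((𝔽.commute_C hb.2 (𝔽.max.mem_of_pow_four hG ha.2 h4)).symm).eq)
    (fun a ha => hsq a ha.1)
    (fun a ha h2 => 𝔽.mem_E_iff.2 ⟨𝔽.max.mem_of_pow_four hG ha.2
      (by rw [show a ^ 4 = (a ^ 2) ^ 2 by rw [← pow_mul], h2, one_pow]), h2⟩)
  set K := 𝔽.img U inf_le_right with hK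
  set L := 𝔽.img 𝔽.X le_rfl with hL
  have hKL : K ≤ L := by rintro _ ⟨x, hx, rfl⟩; exact ⟨x, hx.2, rfl⟩
  have ha : F.relIndex U = Nat.card K := by
    rw [hK, 𝔽.card_img, hF, hU, ← inf_relIndex_right 𝔽.C (R ⊓ 𝔽.X)]
    congr 1
    rw [inf_comm R 𝔽.X, ← inf_assoc, inf_eq_left.2 𝔽.C_le_X, inf_comm]
  have h16 : Nat.card Mat = 16 := by rw [Nat.card_eq_fintype_card]; decide
  have hL8 : Nat.card L ≤ 8 := by
    obtain ⟨k, hk⟩ : ∃ k, L.index = k := ⟨_, rfl⟩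
    have h1 := L.index_mul_card
    rw [h16, hk] at h1
    have h2 : k ≠ 1 := fun e => 𝔽.not_all hG h8 fun m => by
      rw [AddSubgroup.index_eq_one.1 (hk.trans e) |> fun h => h] at hL
      have : m ∈ 𝔽.img 𝔽.X le_rfl := hL ▸ AddSubgroup.mem_top m
      exact this
    have h3 : k ≠ 0 := fun e => by rw [e, zero_mul] at h1; norm_num at h1
    have := Nat.mul_le_mul_right (Nat.card L) (show 2 ≤ k by omega)
    omega
  have hKdvd : Nat.card K ∣ 16 := h16 ▸ AddSubgroup.card_addSubgroup_dvd_card K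
  have hK8 : Nat.card K ≤ 8 := (Nat.card_le_card_of_injective (fun x : K => (⟨x.1, hKL x.2⟩ : L))
    fun a b e => Subtype.ext (Subtype.mk.inj e)).trans hL8
  have hmain : M.relIndex R * (M ⊓ F).relIndex (M ⊓ U) ≤
      U.relIndex R * (F.relIndex U * M.relIndex F) :=
    relIndex_split inf_le_left (inf_le_inf_left R 𝔽.C_le_X)
  rw [ha] at hmain
  have hb1 : 1 ≤ (M ⊓ F).relIndex (M ⊓ U) := Nat.pos_of_ne_zero index_ne_zero_of_finite
  by_cases hRX : R ≤ 𝔽.X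
  · have hr1 : U.relIndex R = 1 := relIndex_eq_one.2 (le_inf le_rfl hRX)
    rw [hr1, one_mul] at hmain
    rcases Nat.lt_or_ge (Nat.card K) 5 with hlt | hge
    · have := Nat.mul_le_mul (Nat.le_of_lt_succ hlt) hi4
      have := (Nat.le_mul_of_pos_right (M.relIndex R) hb1).trans hmain
      omega
    have h8' : 8 ≤ Nat.card K := by
      rcases (Nat.dvd_prime_pow Nat.prime_two).1 (show Nat.card K ∣ 2 ^ 4 from hKdvd) with
        ⟨k, -, hk⟩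
      rw [hk] at hge ⊢
      rcases Nat.lt_or_ge k 3 with h | h
      · interval_cases k <;> simp at hge
      · exact Nat.pow_le_pow_right two_pos h
    have hKeq : ∀ m ∈ L, m ∈ K := by
      have := AddSubgroup.eq_of_le_of_card_ge hKL (hL8.trans h8')
      exact fun m hm => this ▸ hm
    obtain ⟨w, hw, hgood⟩ : ∃ w ∈ R, 𝔽.Good w := by
      by_cases hX : ∀ g, g ∈ 𝔽.X
      · have hf : ∀ m : Mat, ∀ g, mc (𝔽.A g) m = m := fun m g => by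
          rw [𝔽.mem_X_iff.1 (hX g), mc_idM]
        by_cases hCN : 𝔽.C ≤ 𝔽.N
        · obtain ⟨m, hm, hs⟩ := exists_shift h8'
          obtain ⟨x, hx, rfl⟩ := hm
          exact ⟨x, hx.1, 𝔽.good_of_le hCN hx.2 hs (hf _)⟩
        · obtain ⟨v, hv, hfix⟩ := 𝔽.exists_fixed hG hCN
          obtain ⟨m, hm, m', hm', hmi, hmi', hne⟩ := exists_two_inv h8'
          obtain ⟨x, hx, rfl⟩ := hm
          obtain ⟨x', hx', rfl⟩ := hm'
          exact ⟨x * x', mul_mem hx.1 hx'.1, 𝔽.good_of_two hG hx.2 hx'.2 hmi hmi'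
            (shift_of_fix v hv _ _ hmi hmi' hne (hfix x hx.2 hmi) (hfix x' hx'.2 hmi')) (hf _)⟩
      · push Not at hX
        obtain ⟨g, hg⟩ := hX
        have hZ : centT ≤ K := by
          refine le_trans (centT_le (h8'.trans (AddSubgroup.card_le_of_le hKL)) ?_) fun m hm => hKeq m hm
          rintro _ ⟨x, hx, rfl⟩
          exact ⟨g * x * g⁻¹, 𝔽.X_normal.conj_mem x hx g, by rw [𝔽.M_conj g hx, 𝔽.A_eq_tv hg]⟩
        exact exists_good_centT 𝔽 hG hZ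
    have hi2 := 𝔽.relIndex_C_le hG h8 hsq hw hgood
    have := Nat.mul_le_mul hK8 hi2
    have := (Nat.le_mul_of_pos_right (M.relIndex R) hb1).trans hmain
    rw [hF] at this
    omega
  · obtain ⟨g, hgR, hgX⟩ := SetLike.not_le_iff_exists.1 hRX
    have hb2 : ¬ K ≤ centT → 2 ≤ (M ⊓ F).relIndex (M ⊓ U) := by
      intro hno
      obtain ⟨m, hm, hmT⟩ := SetLike.not_le_iff_exists.1 hno
      obtain ⟨x, hx, rfl⟩ := hm
      have hgx : g * x * g⁻¹ ∈ 𝔽.X := 𝔽.X_normal.conj_mem x hx.2 g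
      refine two_le_relIndex (z := g * x * g⁻¹ * x⁻¹)
        (mem_inf.2 ⟨commutator_mem_of_sq hsq hgR hx.1, mem_inf.2
          ⟨R.mul_mem (R.mul_mem (R.mul_mem hgR hx.1) (R.inv_mem hgR)) (R.inv_mem hx.1),
            mul_mem hgx (inv_mem hx.2)⟩⟩) fun h => ?_
      have h1 := 𝔽.M_eq_zero h.2.2
      rw [𝔽.M_mul hgx (inv_mem hx.2), 𝔽.M_inv hx.2, 𝔽.M_conj g hx.2, 𝔽.A_eq_tv hgX] at h1
      exact hmT (mem_centT.2 ((show ∀ a b : Mat, a + b = 0 → a = b by decide) _ _ h1))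
    rcases Nat.lt_or_ge (Nat.card K) 3 with hlt | hge
    · have := Nat.mul_le_mul hr (Nat.mul_le_mul (Nat.le_of_lt_succ hlt) hi4)
      have := (Nat.le_mul_of_pos_right (M.relIndex R) hb1).trans hmain
      omega
    have hgood_i : centT ≤ K → M.relIndex F ≤ 2 := fun hZ => by
      obtain ⟨w, hw, hgood⟩ := exists_good_centT 𝔽 hG hZ
      exact 𝔽.relIndex_C_le hG h8 hsq hw hgood
    rcases Nat.lt_or_ge (Nat.card K) 5 with hlt | hge5
    · by_cases hKT : K ≤ centT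
      · have hi2 := hgood_i (AddSubgroup.eq_of_le_of_card_ge hKT (by
          rw [card_centT]
          rcases (Nat.dvd_prime_pow Nat.prime_two).1 (show Nat.card K ∣ 2 ^ 4 from hKdvd) with
            ⟨k, -, hk⟩
          rw [hk] at hge ⊢
          rcases Nat.lt_or_ge k 2 with h | h
          · interval_cases k <;> simp at hge
          · exact le_trans (by norm_num) (Nat.pow_le_pow_right two_pos h))).ge
        have := Nat.mul_le_mul hr (Nat.mul_le_mul (Nat.le_of_lt_succ hlt) hi2)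
        have := (Nat.le_mul_of_pos_right (M.relIndex R) hb1).trans hmain
        omega
      · have h2 := Nat.mul_le_mul_left (M.relIndex R) (hb2 hKT)
        have := Nat.mul_le_mul hr (Nat.mul_le_mul (Nat.le_of_lt_succ hlt) hi4)
        omega
    · have h8' : 8 ≤ Nat.card K := by
        rcases (Nat.dvd_prime_pow Nat.prime_two).1 (show Nat.card K ∣ 2 ^ 4 from hKdvd) with
          ⟨k, -, hk⟩
        rw [hk] at hge5 ⊢
        rcases Nat.lt_or_ge k 3 with h | h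
        · interval_cases k <;> simp at hge5
        · exact Nat.pow_le_pow_right two_pos h
      have hi2 := hgood_i (centT_le h8' (by
        rintro _ ⟨x, hx, rfl⟩
        exact ⟨g * x * g⁻¹, ⟨R.mul_mem (R.mul_mem hgR hx.1) (R.inv_mem hgR),
          𝔽.X_normal.conj_mem x hx.2 g⟩, by rw [𝔽.M_conj g hx.2, 𝔽.A_eq_tv hgX]⟩))
      have hKT : ¬ K ≤ centT := fun h => by
        have := AddSubgroup.card_le_of_le h
        rw [card_centT] at this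
        omega
      have h2 := Nat.mul_le_mul_left (M.relIndex R) (hb2 hKT)
      have := Nat.mul_le_mul hr (Nat.mul_le_mul hK8 hi2)
      omega

end Frame

end CfsgLib.PGroup.FourGen
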