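import Cfsg.Agent.Lib.PGroup.FourGen.Homocyclic

/-!
# The four generator theorem

`relIndex_le_sixteen`: a 2-group all of whose normal subgroups of exponent two have order at most
four has only elementary abelian sections of order at most sixteen (MacWilliams).
-/

set_option autoImplicit false
set_option linter.unusedSectionVars false
set_option linter.style.haveILetI false

open Subgroup

namespace CfsgLib.PGroup.FourGen

variable {G : Type*} [Group G]

/-- The elements of `N` squaring to the identity. -/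
def omegaOne {N : Subgroup G} (hN : MaxFour N) : Subgroup G where
  carrier := {x | x ∈ N ∧ x ^ 2 = 1}
  one_mem' := ⟨one_mem N, one_pow 2⟩
  mul_mem' := fun {a b} ha hb => ⟨mul_mem ha.1 hb.1, by
    rw [Commute.mul_pow (hN.comm a ha.1 b hb.1), ha.2, hb.2, one_mul]⟩
  inv_mem' := fun {a} ha => ⟨inv_mem ha.1, by rw [inv_pow, ha.2, inv_one]⟩

theorem omegaOne_normal {N : Subgroup G} (hN : MaxFour N) : (omegaOne hN).Normal :=
  ⟨fun x hx g => ⟨hN.normal.conj_mem x hx.1 g, by rw [conj_pow, hx.2, mul_one, mul_inv_cancel]⟩⟩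

theorem exists_central [Finite G] (hG : IsPGroup 2 G) {E : Subgroup G} (hE : E.Normal)
    (h2 : ∀ e ∈ E, e ^ 2 = 1) (h1 : 1 < Nat.card E) (h4 : Nat.card E ≤ 4) :
    ∃ e ∈ E, e ≠ 1 ∧ ∀ g : G, g * e * g⁻¹ = e := by
  haveI := hE
  haveI : Fact (Nat.Prime 2) := ⟨Nat.prime_two⟩
  haveI := hG.isNilpotent
  set K := ⁅E, (⊤ : Subgroup G)⁆ with hK
  haveI : K.Normal := commutator_normal _ _
  have hKE : K ≤ E := commutator_le_left E ⊤
  rcases eq_or_ne K ⊥ with hb | hb
  · haveI : Nontrivial E := Finite.one_lt_card_iff_nontrivial.1 h1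
    obtain ⟨⟨e, he⟩, hne⟩ := exists_ne (1 : E)
    refine ⟨e, he, fun h => hne (Subtype.ext h), fun g => ?_⟩
    have h3 := commutator_eq_bot_iff_le_centralizer.1 hb he
    rw [(mem_centralizer_iff.1 h3 g (mem_top g)), mul_inv_cancel_right]
  · have hlt : K ≠ E := fun e => hb (by
      have h3 := eq_bot_of_commutator_eq (K := E) (le_of_eq e.symm)
      rw [e, h3])
    haveI : Nontrivial K := (Subgroup.nontrivial_iff_ne_bot K).2 hb
    obtain ⟨⟨k, hk⟩, hne⟩ := exists_ne (1 : K)
    have hcard : Nat.card K = 2 := by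
      have hd := card_dvd_of_le hKE
      have h5 : 1 < Nat.card K := Finite.one_lt_card_iff_nontrivial.2 inferInstance
      have h6 : Nat.card K ≠ Nat.card E := fun e => hlt (eq_of_le_of_card_ge hKE e.ge)
      obtain ⟨a, ha⟩ := IsPGroup.iff_card.1 (hG.to_subgroup K)
      obtain ⟨b, hb'⟩ := IsPGroup.iff_card.1 (hG.to_subgroup E)
      rw [ha] at hd h5 h6 ⊢
      rw [hb'] at hd h4 h6
      have hab := (Nat.pow_dvd_pow_iff_le_right (by norm_num : 1 < 2)).1 hd
      have hb2 : b ≤ 2 := (Nat.pow_le_pow_iff_right (by norm_num : 1 < 2)).1 (by simpa using h4)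
      have : a ≠ b := fun e => h6 (by rw [e])
      have : a ≠ 0 := fun e => by rw [e] at h5; norm_num at h5
      rw [show a = 1 by omega]
      rfl
    refine ⟨k, hKE hk, fun h => hne (Subtype.ext h), fun g => ?_⟩
    have hu : ∀ z ∈ K, z ≠ 1 → z = k := fun z hz hz1 => by
      by_contra hzk
      have h3 : 2 < Nat.card K := by
        haveI := Fintype.ofFinite K
        rw [Nat.card_eq_fintype_card, Fintype.two_lt_card_iff]
        exact ⟨1, ⟨k, hk⟩, ⟨z, hz⟩, fun e => hne e.symm, fun e => hz1 (congrArg Subtype.val e).symm,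
          fun e => hzk (congrArg Subtype.val e).symm⟩
      omega
    exact hu _ (Subgroup.Normal.conj_mem inferInstance k hk g)
      fun e => hne (Subtype.ext (conj_eq_one_iff.1 e))

theorem mem_centralizer_of_gen {N : Subgroup G} {S : Set G} {a b : G}
    (hgen : N ≤ closure S) (h : ∀ n ∈ S, a * n * a⁻¹ = b * n * b⁻¹) :
    a⁻¹ * b ∈ centralizer (N : Set G) := by
  have h1 : S ⊆ (centralizer ({a⁻¹ * b} : Set G) : Set G) := fun n hn => by
    rw [SetLike.mem_coe, mem_centralizer_singleton_iff]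
    calc n * (a⁻¹ * b) = a⁻¹ * (a * n * a⁻¹) * b := by group
      _ = a⁻¹ * (b * n * b⁻¹) * b := by rw [h n hn]
      _ = a⁻¹ * b * n := by group
  refine mem_centralizer_iff.2 fun n hn => ?_
  exact mem_centralizer_singleton_iff.1 ((closure_le _).2 h1 (hgen hn))

theorem exists_third [Finite G] {E : Subgroup G} (h4 : Nat.card E = 4) (a : G) :
    ∃ e ∈ E, e ≠ 1 ∧ e ≠ a := by
  classical
  by_contra hno
  push Not at hno
  haveI := Fintype.ofFinite E
  have h5 : (Finset.univ.map (Function.Embedding.subtype fun x => x ∈ E)).card ≤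
      ({1, a} : Finset G).card := Finset.card_le_card fun x hx => by
    simp only [Finset.mem_map, Finset.mem_univ, true_and, Function.Embedding.coe_subtype] at hx
    obtain ⟨⟨y, hy⟩, rfl⟩ := hx
    by_cases h : y = 1
    · simp [h]
    · simp [hno y hy h]
  rw [Finset.card_map, Finset.card_univ, ← Nat.card_eq_fintype_card, h4] at h5
  have := h5.trans Finset.card_le_two
  omega

theorem four_elems [Finite G] {E : Subgroup G} (h4 : Nat.card E = 4) (h2 : ∀ e ∈ E, e ^ 2 = 1)
    {a b : G} (ha : a ∈ E) (hb : b ∈ E) (ha1 : a ≠ 1) (hb1 : b ≠ 1) (hba : b ≠ a) {e : G}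
    (he : e ∈ E) : e = 1 ∨ e = a ∨ e = b ∨ e = a * b := by
  classical
  have hab : a * b ≠ 1 := fun h => hba (by
    rw [eq_inv_of_mul_eq_one_right h]
    exact inv_eq_of_mul_eq_one_right (by rw [← pow_two]; exact h2 a ha))
  by_contra hno
  push Not at hno
  haveI := Fintype.ofFinite E
  have h5 : ({1, a, b, a * b, e} : Finset G).card ≤
      (Finset.univ.map (Function.Embedding.subtype fun x => x ∈ E)).card := by
    refine Finset.card_le_card fun x hx => ?_
    simp only [Finset.mem_insert, Finset.mem_singleton] at hx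
    simp only [Finset.mem_map, Finset.mem_univ, true_and, Function.Embedding.coe_subtype]
    rcases hx with rfl | rfl | rfl | rfl | rfl
    exacts [⟨1, rfl⟩, ⟨⟨_, ha⟩, rfl⟩, ⟨⟨_, hb⟩, rfl⟩, ⟨⟨_, mul_mem ha hb⟩, rfl⟩, ⟨⟨_, he⟩, rfl⟩]
  rw [Finset.card_map, Finset.card_univ, ← Nat.card_eq_fintype_card, h4,
    Finset.card_insert_of_notMem, Finset.card_insert_of_notMem,
    Finset.card_insert_of_notMem, Finset.card_pair (Ne.symm hno.2.2.2)] at h5
  · omega
  all_goals simp [Ne.symm ha1, Ne.symm hb1, Ne.symm hba, Ne.symm hab, Ne.symm hno.1,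
    Ne.symm hno.2.1, Ne.symm hno.2.2.1, ha1, hb1]

/-- **The four generator theorem.** -/
theorem relIndex_le_sixteen [Finite G] (hG : IsPGroup 2 G) (h8 : NoEight G) {R M : Subgroup G}
    (hsq : ∀ a ∈ R, a * a ∈ M) : M.relIndex R ≤ 16 := by
  classical
  haveI : Fact (Nat.Prime 2) := ⟨Nat.prime_two⟩
  obtain ⟨N, hN⟩ := exists_maxFour (G := G)
  haveI := hN.normal
  set E := omegaOne hN with hEdef
  haveI := omegaOne_normal hN
  have hE4 : Nat.card E ≤ 4 := h8 E (omegaOne_normal hN) fun e he => he.2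
  set C := centralizer (N : Set G) with hC
  set F := R ⊓ C with hF
  have hFi : M.relIndex F ≤ Nat.card E := relIndex_le_omega hG (F := F)
    (fun a ha h4 b hb => (mem_centralizer_iff.1 hb.2 a (hN.mem_of_pow_four hG ha.2 h4)))
    (fun a ha => hsq a ha.1)
    (fun a ha h2 => ⟨hN.mem_of_pow_four hG ha.2 (by rw [show (4 : ℕ) = 2 * 2 by rfl, pow_mul, h2, one_pow]), h2⟩)
  have hmain : M.relIndex R * (M ⊓ F).relIndex (M ⊓ R) ≤ C.relIndex R * M.relIndex F := by
    have h0 : M.relIndex R * (M ⊓ F).relIndex (M ⊓ R) ≤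
        R.relIndex R * (F.relIndex R * M.relIndex F) := relIndex_split le_rfl inf_le_left
    rwa [relIndex_self, one_mul, show F.relIndex R = C.relIndex R from inf_relIndex_left R C] at h0
  have hb1 : 1 ≤ (M ⊓ F).relIndex (M ⊓ R) := Nat.pos_of_ne_zero index_ne_zero_of_finite
  have hmain1 : M.relIndex R ≤ C.relIndex R * M.relIndex F :=
    (Nat.le_mul_of_pos_right (M.relIndex R) hb1).trans hmain
  have hsqE : ∀ n ∈ N, n ^ 2 ∈ E := fun n hn =>
    ⟨pow_mem hn 2, by rw [← pow_mul]; exact hN.exp n hn⟩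
  rcases Nat.lt_or_ge (Nat.card E) 2 with hE1 | hE2
  · -- `N` is trivial
    have hN1 : ∀ n ∈ N, n = 1 := fun n hn => by
      have hone : ∀ e ∈ E, e = 1 := fun e he => by
        rw [card_eq_one.1 (show Nat.card E = 1 from le_antisymm (by omega) Nat.card_pos), mem_bot]
          at he
        exact he
      exact hone n ⟨hn, hone _ (hsqE n hn)⟩
    have hC1 : C.relIndex R = 1 := relIndex_eq_one.2 fun r _ =>
      mem_centralizer_iff.2 fun n hn => by rw [hN1 n hn, one_mul, mul_one]
    rw [hC1, one_mul] at hmain1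
    omega
  obtain ⟨e₁, he₁, he₁1, hfix⟩ := exists_central hG (omegaOne_normal hN) (fun e he => he.2)
    (show 1 < Nat.card E by omega) hE4
  have hk : ∀ n ∈ N, ∀ m ∈ N, n ^ 2 = m ^ 2 → ∃ e ∈ E, m = n * e := fun n hn m hm e =>
    ⟨n⁻¹ * m, ⟨mul_mem (inv_mem hn) hm, by
      rw [Commute.mul_pow (hN.comm _ (inv_mem hn) _ hm), inv_pow, e, inv_mul_cancel]⟩,
      (mul_inv_cancel_left n m).symm⟩
  rcases Nat.lt_or_ge (Nat.card E) 3 with hE2' | hE3
  · -- `N` is cyclic of order at most four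
    have hEeq : ∀ e ∈ E, e = 1 ∨ e = e₁ := fun e he => by
      by_contra hno
      push Not at hno
      have h3 : 2 < Nat.card E := by
        haveI := Fintype.ofFinite E
        rw [Nat.card_eq_fintype_card, Fintype.two_lt_card_iff]
        exact ⟨1, ⟨e₁, he₁⟩, ⟨e, he⟩, fun h => he₁1 (congrArg Subtype.val h).symm,
          fun h => hno.1 (congrArg Subtype.val h).symm, fun h => hno.2 (congrArg Subtype.val h).symm⟩
      omega
    obtain ⟨n₀, hn₀, hgen⟩ : ∃ n₀ ∈ N, N ≤ closure {e₁, n₀} := by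
      by_cases h : ∃ n ∈ N, n ^ 2 ≠ 1
      · obtain ⟨n₀, hn₀, hne⟩ := h
        refine ⟨n₀, hn₀, fun n hn => ?_⟩
        rcases hEeq _ (hsqE n hn) with h2 | h2
        · rcases hEeq n ⟨hn, h2⟩ with rfl | rfl
          exacts [one_mem _, subset_closure (by simp)]
        · obtain ⟨e, he, rfl⟩ := hk n₀ hn₀ n hn (by
            rw [h2, (hEeq _ (hsqE n₀ hn₀)).resolve_left hne])
          rcases hEeq e he with rfl | rfl
          exacts [mul_mem (subset_closure (by simp)) (one_mem _),
            mul_mem (subset_closure (by simp)) (subset_closure (by simp))]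
      · push Not at h
        refine ⟨1, one_mem N, fun n hn => ?_⟩
        rcases hEeq n ⟨hn, h n hn⟩ with rfl | rfl
        exacts [one_mem _, subset_closure (by simp)]
    have hC4 : C.relIndex R ≤ (({1, e₁, n₀, n₀ * e₁} : Finset G)).card := by
      refine relIndex_le_of_map (fun g => g * n₀ * g⁻¹) _ (fun r _ => ?_) fun a _ b _ e =>
        mem_centralizer_of_gen hgen fun n hn => ?_
      · have hm := hN.normal.conj_mem n₀ hn₀ r
        rcases hEeq _ (hsqE _ hm) with h2 | h2
        · rcases hEeq _ ⟨hm, h2⟩ with h | h <;> rw [h] <;> simp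
        · have h3 : n₀ ^ 2 = (r * n₀ * r⁻¹) ^ 2 := by
            rcases hEeq _ (hsqE n₀ hn₀) with h4 | h4
            · rw [conj_pow, h4, mul_one, mul_inv_cancel] at h2
              exact absurd h2.symm he₁1
            · rw [conj_pow, h4, hfix]
          obtain ⟨e, he, heq⟩ := hk n₀ hn₀ _ hm h3
          rw [heq]
          rcases hEeq e he with rfl | rfl <;> simp
      · rcases hn with rfl | rfl
        · rw [hfix, hfix]
        · exact e
    have := Nat.mul_le_mul (hC4.trans Finset.card_le_four) (hFi.trans (Nat.le_of_lt_succ hE2'))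
    omega
  -- now `E` has order four
  have hE4' : Nat.card E = 4 := by
    obtain ⟨k, hk⟩ := IsPGroup.iff_card.1 (hG.to_subgroup E)
    rw [hk] at hE3 hE4 ⊢
    rcases Nat.lt_or_ge k 2 with h | h
    · interval_cases k <;> simp at hE3
    · exact le_antisymm hE4 (le_trans (by norm_num) (Nat.pow_le_pow_right two_pos h))
  obtain ⟨e₂, he₂, he₂1, he₂2⟩ := exists_third hE4' e₁
  have he12 : e₁ * e₂ ∈ E := mul_mem he₁ he₂
  have hEeq : ∀ e ∈ E, e = 1 ∨ e = e₁ ∨ e = e₂ ∨ e = e₁ * e₂ := fun e he =>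
    four_elems hE4' (fun e he => he.2) he₁ he₂ he₁1 he₂1 he₂2 he
  have hEgen : ∀ S : Set G, e₁ ∈ closure S → e₂ ∈ closure S → ∀ e ∈ E, e ∈ closure S :=
    fun S h₁ h₂ e he => by
      rcases hEeq e he with rfl | rfl | rfl | rfl
      exacts [one_mem _, h₁, h₂, mul_mem h₁ h₂]
  by_cases hone : ∀ n ∈ N, n ^ 2 = 1
  · -- `N = E`
    have hgen : N ≤ closure {e₁, e₂} := fun n hn =>
      hEgen _ (subset_closure (by simp)) (subset_closure (by simp)) n ⟨hn, hone n hn⟩
    have hC4 : C.relIndex R ≤ (({1, e₁, e₂, e₁ * e₂} : Finset G)).card := by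
      refine relIndex_le_of_map (fun g => g * e₂ * g⁻¹) _ (fun r _ => ?_) fun a _ b _ e =>
        mem_centralizer_of_gen hgen fun n hn => ?_
      · rcases hEeq _ ((omegaOne_normal hN).conj_mem e₂ he₂ r) with h | h | h | h <;> rw [h] <;> simp
      · rcases hn with rfl | rfl
        · rw [hfix, hfix]
        · exact e
    have := Nat.mul_le_mul (hC4.trans Finset.card_le_four) (hFi.trans hE4)
    omega
  push Not at hone
  obtain ⟨n₁, hn₁, hn₁1⟩ := hone
  set f := n₁ ^ 2 with hf
  have hfE : f ∈ E := hsqE n₁ hn₁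
  by_cases hrange : ∀ m ∈ N, m ^ 2 = 1 ∨ m ^ 2 = f
  · -- `N` has type (4, 2)
    have hffix : ∀ g : G, g * f * g⁻¹ = f := fun g => by
      rcases hrange _ (hN.normal.conj_mem n₁ hn₁ g) with h' | h'
      · rw [conj_pow, conj_eq_one_iff] at h'
        exact absurd h' hn₁1
      · rwa [conj_pow] at h'
    obtain ⟨e, he, he1, hef⟩ := exists_third hE4' f
    have hEf : ∀ x ∈ E, x = 1 ∨ x = f ∨ x = e ∨ x = f * e := fun x hx =>
      four_elems hE4' (fun e he => he.2) hfE he hn₁1 he1 hef hx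
    have hgen : N ≤ closure {n₁, e} := fun n hn => by
      have hEc : ∀ x ∈ E, x ∈ closure ({n₁, e} : Set G) := fun x hx => by
        rcases hEf x hx with rfl | rfl | rfl | rfl
        exacts [one_mem _, pow_mem (subset_closure (by simp)) 2, subset_closure (by simp),
          mul_mem (pow_mem (subset_closure (by simp)) 2) (subset_closure (by simp))]
      rcases hrange n hn with h | h
      · exact hEc n ⟨hn, h⟩
      · obtain ⟨z, hz, rfl⟩ := hk n₁ hn₁ n hn h.symm
        exact mul_mem (subset_closure (by simp)) (hEc z hz)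
    set s := ({n₁, n₁ * f, n₁ * e, n₁ * (f * e)} : Finset G) ×ˢ ({e, f * e} : Finset G) with hs
    have hs8 : s.card ≤ 8 := by
      rw [hs, Finset.card_product]
      exact Nat.mul_le_mul Finset.card_le_four Finset.card_le_two
    set s' := s.filter fun p => ∃ r ∈ R, (r * n₁ * r⁻¹, r * e * r⁻¹) = p with hs'
    have hmap : C.relIndex R ≤ s'.card := by
      refine relIndex_le_of_map (fun g => (g * n₁ * g⁻¹, g * e * g⁻¹)) _ (fun r hr => ?_)
        fun a _ b _ h => mem_centralizer_of_gen hgen fun n hn => ?_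
      · refine Finset.mem_filter.2 ⟨Finset.mem_product.2 ⟨?_, ?_⟩, r, hr, rfl⟩
        · obtain ⟨z, hz, hz'⟩ := hk n₁ hn₁ _ (hN.normal.conj_mem n₁ hn₁ r) (by
            rw [conj_pow]; exact (hffix r).symm)
          rw [hz']
          rcases hEf z hz with rfl | rfl | rfl | rfl <;> simp
        · have h1 := (omegaOne_normal hN).conj_mem e he r
          rcases hEf _ h1 with h | h | h | h
          · exact absurd (conj_eq_one_iff.1 h) he1
          · exact absurd (mul_left_cancel (mul_right_cancel (h.trans (hffix r).symm))) hef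
          · rw [h]; simp
          · rw [h]; simp
      · rcases hn with rfl | rfl
        · exact congrArg Prod.fst h
        · exact congrArg Prod.snd h
    rcases Nat.lt_or_ge (C.relIndex R) 5 with hlt | hge
    · have := Nat.mul_le_mul (Nat.le_of_lt_succ hlt) (hFi.trans hE4)
      omega
    have h8' : 8 ≤ C.relIndex R := by
      obtain ⟨k, hk'⟩ := (hG.to_subgroup R).index (C.subgroupOf R)
      rw [relIndex, hk'] at hge ⊢
      rcases Nat.lt_or_ge k 3 with h | h
      · interval_cases k <;> simp at hge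
      · exact Nat.pow_le_pow_right two_pos h
    have hfull : s' = s := Finset.eq_of_subset_of_card_le (Finset.filter_subset _ _)
      (hs8.trans (h8'.trans hmap))
    obtain ⟨a, ha, hab⟩ : ∃ a ∈ R, (a * n₁ * a⁻¹, a * e * a⁻¹) = (n₁ * e, e) :=
      (Finset.mem_filter.1 (hfull.symm ▸ by simp [hs] : (n₁ * e, e) ∈ s')).2
    obtain ⟨b, hb, hbb⟩ : ∃ b ∈ R, (b * n₁ * b⁻¹, b * e * b⁻¹) = (n₁, f * e) :=
      (Finset.mem_filter.1 (hfull.symm ▸ by simp [hs] : (n₁, f * e) ∈ s')).2
    simp only [Prod.mk.injEq] at hab hbb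
    have hz : a * b * a⁻¹ * b⁻¹ ∉ C := fun hzC => by
      have h1 : (b * a) * n₁ * (b * a)⁻¹ = n₁ * (f * e) := by
        rw [show (b * a) * n₁ * (b * a)⁻¹ = b * (a * n₁ * a⁻¹) * b⁻¹ by group, hab.1,
          show b * (n₁ * e) * b⁻¹ = b * n₁ * b⁻¹ * (b * e * b⁻¹) by group, hbb.1, hbb.2]
      have h2 : (a * b) * n₁ * (a * b)⁻¹ = n₁ * e := by
        rw [show (a * b) * n₁ * (a * b)⁻¹ = a * (b * n₁ * b⁻¹) * a⁻¹ by group, hbb.1, hab.1]
      have h3 : n₁ * (f * e) ∈ N := mul_mem hn₁ (mul_mem hfE.1 he.1)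
      have h4 := mem_centralizer_iff.1 hzC _ h3
      rw [show (a * b) * n₁ * (a * b)⁻¹ = a * b * a⁻¹ * b⁻¹ * ((b * a) * n₁ * (b * a)⁻¹) *
        (a * b * a⁻¹ * b⁻¹)⁻¹ by group, h1, ← h4, mul_inv_cancel_right] at h2
      exact hn₁1 (mul_eq_right.1 (mul_left_cancel h2))
    have hzR : a * b * a⁻¹ * b⁻¹ ∈ R := R.mul_mem (R.mul_mem (R.mul_mem ha hb) (R.inv_mem ha)) (R.inv_mem hb)
    have hb2 : 2 ≤ (M ⊓ F).relIndex (M ⊓ R) := two_le_relIndex
      (mem_inf.2 ⟨commutator_mem_of_sq hsq ha hb, hzR⟩) fun h => hz h.2.2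
    have h1 := Nat.mul_le_mul (hmap.trans ((Finset.card_filter_le _ _).trans hs8)) (hFi.trans hE4)
    have h2 := Nat.mul_le_mul_left (M.relIndex R) hb2
    omega
  -- `N` has type (4, 4)
  push Not at hrange
  obtain ⟨n₂, hn₂, hn₂1, hn₂f⟩ := hrange
  have hroot : ∀ x ∈ E, ∃ n ∈ N, n ^ 2 = x := fun x hx => by
    rcases four_elems hE4' (fun e he => he.2) hfE (hsqE n₂ hn₂) hn₁1 hn₂1 hn₂f hx with
      rfl | rfl | rfl | rfl
    · exact ⟨1, one_mem N, one_pow 2⟩
    · exact ⟨n₁, hn₁, rfl⟩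
    · exact ⟨n₂, hn₂, rfl⟩
    · exact ⟨n₁ * n₂, mul_mem hn₁ hn₂, Commute.mul_pow (hN.comm n₁ hn₁ n₂ hn₂) 2⟩
  let ι : Vec → G := fun v => e₁ ^ v.1.val * e₂ ^ v.2.val
  have hι : ∀ v : Vec, ι v ∈ E := fun v => mul_mem (pow_mem he₁ _) (pow_mem he₂ _)
  have hpow : ∀ x ∈ E, ∀ a b : ZMod 2, x ^ (a + b).val = x ^ a.val * x ^ b.val := fun x hx a b => by
    rw [← pow_add, ZMod.val_add]
    exact (pow_eq_pow_mod _ hx.2).symm
  let 𝔽 : Frame G :=
    { N := N
      max := hN
      ι := ι
      ι_mem := fun v => (hι v).1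
      ι_add := fun v w => by
        show e₁ ^ (v.1 + w.1).val * e₂ ^ (v.2 + w.2).val = _
        rw [hpow _ he₁, hpow _ he₂]
        exact Commute.mul_mul_mul_comm (hN.comm _ (pow_mem he₁.1 _) _ (pow_mem he₂.1 _)) _ _
      ι_inj := by
        have h0 : ∀ v : Vec, ι v = 1 → v = 0 := by
          intro v hv
          rcases (show ∀ v : Vec, v = 0 ∨ v = (1, 0) ∨ v = (0, 1) ∨ v = (1, 1) by decide) v with
            rfl | rfl | rfl | rfl
          · rfl
          all_goals exfalso; simp [ι, show (1 : ZMod 2).val = 1 from rfl] at hv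
          · exact he₁1 hv
          · exact he₂1 hv
          · refine he₂2 ?_
            rw [eq_inv_of_mul_eq_one_right hv]
            exact inv_eq_of_mul_eq_one_right (by rw [← pow_two]; exact he₁.2)
        intro v w hvw
        have hadd : ι (v + w) = ι v * ι w := by
          show e₁ ^ (v.1 + w.1).val * e₂ ^ (v.2 + w.2).val = _
          rw [hpow _ he₁, hpow _ he₂]
          exact Commute.mul_mul_mul_comm (hN.comm _ (pow_mem he₁.1 _) _ (pow_mem he₂.1 _)) _ _
        rw [hvw, ← pow_two, (hι w).2] at hadd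
        exact (show ∀ a b : Vec, a + b = 0 → a = b by decide) _ _ (h0 _ hadd)
      ι_surj := fun x hx hx2 => by
        rcases hEeq x ⟨hx, hx2⟩ with rfl | rfl | rfl | rfl
        · exact ⟨0, by simp [ι, show (1 : ZMod 2).val = 1 from rfl]⟩
        · exact ⟨(1, 0), by simp [ι, show (1 : ZMod 2).val = 1 from rfl]⟩
        · exact ⟨(0, 1), by simp [ι, show (1 : ZMod 2).val = 1 from rfl]⟩
        · exact ⟨(1, 1), by simp [ι, show (1 : ZMod 2).val = 1 from rfl]⟩
      lift := fun v => hroot _ (hι v)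
      fixed := fun g => by simpa [ι, show (1 : ZMod 2).val = 1 from rfl] using hfix g }
  exact 𝔽.relIndex_le hG h8 hsq

end CfsgLib.PGroup.FourGen
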