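import Cfsg.Agent.Lib.PGroup.FourGen.Main
import Cfsg.Agent.Lib.Invol.SectionalFour

/-!
# Sectional rank at most four for 2-groups
-/

set_option autoImplicit false
set_option linter.unusedSectionVars false

open Subgroup

namespace CfsgLib.PGroup.FourGen

variable {G : Type*} [Group G] [Finite G]

/-- A 2-group with `|R : M| ≤ 16` whenever `M ≤ R` contains the squares of `R` has sectional rank
at most four. -/
theorem sectional_of_top (hG : IsPGroup 2 G)
    (h : ∀ R M : Subgroup G, M ≤ R → (∀ a ∈ R, a * a ∈ M) → M.relIndex R ≤ 16) :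
    Cfsg.SectionalPRankLE 2 4 G := by
  haveI : Fact (Nat.Prime 2) := ⟨Nat.prime_two⟩
  obtain ⟨S⟩ : Nonempty (Sylow 2 G) := inferInstance
  refine Invol.SectFour.sectional_of_bound S fun R _ M hM hsq => h R M hM hsq

/-- **MacWilliams.** A 2-group without normal `E₈` has sectional rank at most four. -/
theorem sectional_of_noEight (hG : IsPGroup 2 G) (h8 : NoEight G) :
    Cfsg.SectionalPRankLE 2 4 G :=
  sectional_of_top hG fun _ _ _ hsq => relIndex_le_sixteen hG h8 hsq

theorem comm_of_sq_one {A : Subgroup G} (h : ∀ a ∈ A, a ^ 2 = 1) : IsMulCommutative A :=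
  isMulCommutative_iff.2 fun a b => Subtype.ext
    (Invol.SectFour.mul_comm_of_sq (fun t ht => by rw [← pow_two]; exact h t ht) a.2 b.2)

end CfsgLib.PGroup.FourGen
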